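import Cfsg.Agent.H43.SP.Inst
import Cfsg.Agent.H957.T5U3
import Cfsg.Agent.H957.T5U10

/-!
# S2274, row `PSU`, cross characteristic: planes and totally isotropic subspaces

Strong versions of the theorems `up_of_mp`, `up_plane`, `up_ti` of H957/T5U2, T5U3 (helper957).
-/

set_option autoImplicit false

namespace Cfsg.Agent.H43.SP

open Cfsg Cfsg.Agent.LieClassical.HermBasic Cfsg.Agent.LieClassical.HermSiegel
open Cfsg.Agent.H533.T5 Cfsg.Agent.H106.MT Cfsg.Agent.H132.S5
open Cfsg.Agent.H957.T5V Cfsg.Agent.H957.T5Conf Cfsg.Agent.H957.T5Pairs Cfsg.Agent.H957.T5U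
open Cfsg.Agent.H177.MeetPSU (rho rho_apply)
open scoped Matrix

variable {F : Type} [Field F] {n q p : ℕ}
variable {σ τ : F ≃+* F} {c c' d d' : Equiv.Perm (Fin n → F)}

theorem sps_of_mp {K : Type} [Field K] [Finite K] (κ : K → F)
    {X : Type} [AddCommGroup X] [Module K X] {ι : X → (Fin n → F)}
    (hsmul : ∀ (a : K) (x : X), ι (a • x) = κ a • ι x)
    (hinj : Function.Injective ι)
    (hsc : ∀ a : F, (∀ v : X, ∃ w : X, a • ι v = ι w) → ∃ a0 : K, κ a0 = a)
    (hp : p.Prime) {m : ℕ} (hm : 2 ≤ m) (hX : Module.finrank K X = m)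
    (hrow : SRow p (Matrix.ProjectiveSpecialLinearGroup (Fin m) K))
    {σ0 τ0 : K ≃+* K} {c0 d0 : Equiv.Perm X} (hc0 : Semi σ0 c0) (hd0 : Semi τ0 d0)
    (hc : Res ι c c0) (hd : Res ι d d0) (hcp : IsScal F (c ^ p)) (hdp : IsScal F (d ^ p))
    (hcn : ¬ IsScal K c0) (hdn : ¬ IsScal K d0)
    (hext : ∀ g : X ≃ₗ[K] X, LinearEquiv.det g = 1 → ∃ s : SU n F q, ∀ v, act s (ι v) = ι (g v)) :
    SPs F p (rho n F q).range c d := by
  have key : ∀ (w : Equiv.Perm (Fin n → F)) (w0 : Equiv.Perm X), Res ι w w0 → IsScal F w →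
      IsScal K w0 := by
    rintro w w0 hw ⟨a, ha⟩
    obtain ⟨a0, ha0⟩ := hsc a (fun v => ⟨w0 v, by rw [← hw, ha]⟩)
    refine ⟨a0, fun v => hinj ?_⟩
    rw [hsmul, ha0, ← hw, ha]
  refine SPs.of_res hinj hc hd ?_ key (sps_SL hm hX hp hrow hc0 hd0 (key _ _ (hc.pow p) hcp) hcn
    (key _ _ (hd.pow p) hdp) hdn)
  rintro _ ⟨g, hg, rfl⟩
  obtain ⟨s, hs⟩ := hext g hg
  exact ⟨rho n F q s, ⟨s, rfl⟩, fun v => by rw [rho_apply, hs, toA_apply]⟩

theorem sps_conj_right (s : SU n F q)
    (h : SPs F p (rho n F q).range c (rho n F q s * d * (rho n F q s)⁻¹)) :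
    SPs F p (rho n F q).range c d := h.conj_right ⟨s, rfl⟩

theorem sps_symm (hd : SI q τ d) (h : SPs F p (rho n F q).range c d) :
    SPs F p (rho n F q).range d c :=
  h.symm hd.semi (by
    rintro _ ⟨s, rfl⟩
    exact (si_rho s).semi)

theorem sps_of_smulA (hc : SI q σ c) (hd : SI q τ d) (s t : Fˣ)
    (h : SPs F p (rho n F q).range (smulA s c) (smulA t d)) : SPs F p (rho n F q).range c d :=
  h.of_scl hc.semi hd.semi (by
    rintro _ ⟨s, rfl⟩
    exact (si_rho s).semi) (scl_smulA s c) (scl_smulA t d)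

theorem sps_of_scl (hc : SI q σ c) (hd : SI q τ d) (h1 : Scl F c' c) (h2 : Scl F d' d)
    (h : SPs F p (rho n F q).range c' d') : SPs F p (rho n F q).range c d :=
  h.of_scl hc.semi hd.semi (by
    rintro _ ⟨s, rfl⟩
    exact (si_rho s).semi) h1 h2

variable [Fintype F]

theorem sps_plane (hF : Fintype.card F = q ^ 2) (hn : 3 ≤ n) (hp : p.Prime)
    (hrow : SRow p (Matrix.ProjectiveSpecialLinearGroup (Fin 2) (Kq hF))) {ε : F} (hε : ε ≠ 0) (hεq : ε ^ q = -ε) (hc : SI q σ c) (hd : SI q τ d)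
    {e f e' f' : Fin n → F} (h : Fr hF ε c e f) (h' : Fr hF ε d e' f')
    (hcp : IsScal F (c ^ p)) (hdp : IsScal F (d ^ p)) : SPs F p (rho n F q).range c d := by
  have hli := li_of_hyp hF hε h.ee h.ff h.ef
  have hli' := li_of_hyp hF hε h'.ee h'.ff h'.ef
  have hfe : hermForm n F q f e = -ε := by rw [herm_swap hF e f, h.ef, hεq]
  have hfe' : hermForm n F q f' e' = -ε := by rw [herm_swap hF e' f', h'.ef, hεq]
  have key : ∀ {a b a' b' : Fin n → F}, LinearIndependent F ![a, b] →
      LinearIndependent F ![a', b'] → hermForm n F q a a = 0 → hermForm n F q b b = 0 →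
      hermForm n F q a b = ε → hermForm n F q a' a' = 0 → hermForm n F q b' b' = 0 →
      hermForm n F q a' b' = ε → ∃ s : SU n F q, act s a = a' ∧ act s b = b' := by
    intro a b a' b' h1 h2 ha hb hab ha' hb' hab'
    obtain ⟨z, hz, hzb⟩ := exists_z hF h2 (by omega) (e := a') (f := b')
      (Submodule.subset_span ⟨0, rfl⟩) (Submodule.subset_span ⟨1, rfl⟩) ha' (by rwa [hab'])
    obtain ⟨s, hs⟩ := Cfsg.Agent.H77.Witt.exists_su_ext hF ![a, b] ![a', b'] h1 h2 (by
      intro i j
      fin_cases i <;> fin_cases j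
      · exact ha.trans ha'.symm
      · exact hab.trans hab'.symm
      · change hermForm n F q b a = hermForm n F q b' a'
        rw [herm_swap hF a b, herm_swap hF a' b', hab, hab']
      · exact hb.trans hb'.symm) hz hzb
    exact ⟨s, hs 0, hs 1⟩
  -- move the second frame to the first one
  obtain ⟨s, hse, hsf⟩ := key hli' hli h'.ee h'.ff h'.ef h.ee h.ff h.ef
  refine sps_conj_right s ?_
  have hd2 := h'.conj s
  rw [hse, hsf] at hd2
  obtain ⟨c0, hc0, hcs, hcn⟩ := io_semi hε hc h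
  obtain ⟨d0, hd0, hds, hdn⟩ := io_semi hε (hd.conj s) hd2
  refine sps_of_mp (K := Kq hF) (fun a => (a : F)) (fun a x => io_smul a x) (io_inj hli) ?_ hp
    (X := Fin 2 → Kq hF) le_rfl (by rw [Module.finrank_fin_fun]) hrow hcs hds hc0 hd0 hcp ?_ hcn
    hdn ?_
  · intro a ha
    obtain ⟨w, hw⟩ := ha ![1, 0]
    refine ⟨w 0, ?_⟩
    rw [li2_iff] at hli
    simp only [io, Matrix.cons_val_zero, Matrix.cons_val_one] at hw
    obtain ⟨h1, -⟩ := hli (w 0 - a) (w 1) (by
      have h2 : a • e = (w 0 : F) • e + (w 1 : F) • f := by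
        rw [← hw]; simp
      rw [sub_smul, h2]
      module)
    exact sub_eq_zero.1 h1
  · obtain ⟨a, ha⟩ := hdp
    refine ⟨a, fun v => ?_⟩
    rw [conj_pow, Equiv.Perm.mul_apply, Equiv.Perm.mul_apply, ha, rho_apply, act_smul,
      ← rho_apply, apply_inv_self]
  · intro g hg
    set M := LinearMap.toMatrix' (g : (Fin 2 → Kq hF) →ₗ[Kq hF] (Fin 2 → Kq hF)) with hM
    have hdet : M 0 0 * M 1 1 - M 0 1 * M 1 0 = 1 := by
      rw [← Matrix.det_fin_two, hM, LinearMap.det_toMatrix', ← LinearEquiv.coe_det, hg,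
        Units.val_one]
    have hdet' : (M 0 0 : F) * M 1 1 - M 0 1 * M 1 0 = 1 := by
      have := congrArg (fun x : Kq hF => (x : F)) hdet
      simpa using this
    have hg1 : ∀ x, g x = ![M 0 0 * x 0 + M 0 1 * x 1, M 1 0 * x 0 + M 1 1 * x 1] := by
      intro x
      have h1 : g x = M.mulVec x := by
        rw [hM, LinearMap.toMatrix'_mulVec]; rfl
      rw [h1]
      funext i
      fin_cases i <;> simp [Matrix.mulVec, dotProduct, Fin.sum_univ_two]
    have hKq : ∀ x : Kq hF, (x : F) ^ q = x := fun x => x.2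
    have e1 : hermForm n F q ((M 0 0 : F) • e + (M 1 0 : F) • f)
        ((M 0 0 : F) • e + (M 1 0 : F) • f) = 0 := by
      simp only [herm_add_left, herm_add_right hF, herm_smul_left, herm_smul_right, h.ee, h.ff,
        h.ef, hfe, hKq]
      ring
    have e2 : hermForm n F q ((M 0 1 : F) • e + (M 1 1 : F) • f)
        ((M 0 1 : F) • e + (M 1 1 : F) • f) = 0 := by
      simp only [herm_add_left, herm_add_right hF, herm_smul_left, herm_smul_right, h.ee, h.ff,
        h.ef, hfe, hKq]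
      ring
    have e3 : hermForm n F q ((M 0 0 : F) • e + (M 1 0 : F) • f)
        ((M 0 1 : F) • e + (M 1 1 : F) • f) = ε := by
      simp only [herm_add_left, herm_add_right hF, herm_smul_left, herm_smul_right, h.ee, h.ff,
        h.ef, hfe, hKq]
      linear_combination ε * hdet'
    obtain ⟨t, ht1, ht2⟩ := key hli (li_of_hyp hF hε e1 e2 e3) h.ee h.ff h.ef e1 e2 e3
    refine ⟨t, fun x => ?_⟩
    rw [io, act_add, act_smul, act_smul, ht1, ht2, hg1, io]
    simp only [Matrix.cons_val_zero, Matrix.cons_val_one, Subfield.coe_add, Subfield.coe_mul]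
    module

/-- Both elements leave the totally isotropic subspace `U` invariant and are not scalar there. -/
theorem sps_ti_same (hF : Fintype.card F = q ^ 2) (hp : p.Prime) {m : ℕ} (hm : 2 ≤ m)
    (hrow : SRow p (Matrix.ProjectiveSpecialLinearGroup (Fin m) F))
    (hc : SI q σ c) (hd : SI q τ d) {U : Submodule F (Fin n → F)}
    (hU : Module.finrank F U = m) (h0 : ∀ u ∈ U, ∀ v ∈ U, hermForm n F q u v = 0)
    (hcU : ∀ u ∈ U, c u ∈ U) (hdU : ∀ u ∈ U, d u ∈ U)
    (hcn : ¬ ∃ t : F, ∀ u ∈ U, c u = t • u) (hdn : ¬ ∃ t : F, ∀ u ∈ U, d u = t • u)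
    (hcp : IsScal F (c ^ p)) (hdp : IsScal F (d ^ p)) : SPs F p (rho n F q).range c d := by
  classical
  obtain ⟨c0, hc0⟩ := exists_res (ι := ((↑) : U → (Fin n → F))) (x := c) Subtype.val_injective
    (fun v => ⟨⟨c v, hcU v v.2⟩, rfl⟩)
  obtain ⟨d0, hd0⟩ := exists_res (ι := ((↑) : U → (Fin n → F))) (x := d) Subtype.val_injective
    (fun v => ⟨⟨d v, hdU v v.2⟩, rfl⟩)
  have hsemi : ∀ {σ : F ≃+* F} {c : Equiv.Perm (Fin n → F)} {c0 : Equiv.Perm U}, SI q σ c →
      Res ((↑) : U → (Fin n → F)) c c0 → Semi σ c0 := by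
    intro σ c c0 hc hc0
    refine ⟨fun u v => Subtype.ext ?_, fun a u => Subtype.ext ?_⟩
    · rw [Submodule.coe_add, ← hc0, ← hc0, ← hc0, Submodule.coe_add, hc.semi.add]
    · rw [Submodule.coe_smul, ← hc0, ← hc0, Submodule.coe_smul, hc.semi.smul]
  refine sps_of_mp (K := F) (fun a => a) (X := U) (ι := ((↑) : U → (Fin n → F)))
    (fun a x => Submodule.coe_smul a x) Subtype.val_injective (fun a _ => ⟨a, rfl⟩) hp hm hU hrow
    (hsemi hc hc0) (hsemi hd hd0) hc0 hd0 hcp hdp ?_ ?_ ?_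
  · rintro ⟨t, ht⟩
    exact hcn ⟨t, fun u hu => by
      have := hc0 ⟨u, hu⟩
      rw [ht] at this
      exact this⟩
  · rintro ⟨t, ht⟩
    exact hdn ⟨t, fun u hu => by
      have := hd0 ⟨u, hu⟩
      rw [ht] at this
      exact this⟩
  · intro g hg
    let B := Module.finBasis F U
    have hBli : LinearIndependent F (fun i => ((B i : U) : Fin n → F)) :=
      B.linearIndependent.map' U.subtype (Submodule.ker_subtype U)
    have hA : (LinearMap.toMatrix B B (g : U →ₗ[F] U)).det = 1 := by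
      rw [LinearMap.det_toMatrix, ← LinearEquiv.coe_det, hg, Units.val_one]
    obtain ⟨s, hs⟩ := ti_ext (q := q) hF (by omega) hBli (fun i j => h0 _ (B i).2 _ (B j).2) hA
    have h1 : ∀ j, act s (B j : Fin n → F) = (g (B j) : U) := by
      intro j
      rw [hs]
      have h2 := B.sum_repr (g (B j))
      have h3 := congrArg (fun x : U => (x : Fin n → F)) h2
      simp only [Submodule.coe_sum, Submodule.coe_smul] at h3
      rw [← h3]
      refine Finset.sum_congr rfl fun i _ => ?_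
      rw [LinearMap.toMatrix_apply]
      rfl
    refine ⟨s, fun v => ?_⟩
    have h4 := B.sum_repr v
    have h5 : (v : Fin n → F) = ∑ i, B.repr v i • ((B i : U) : Fin n → F) := by
      conv_lhs => rw [← h4]
      rw [Submodule.coe_sum]
      rfl
    have h6 : g v = ∑ i, B.repr v i • g (B i) := by
      conv_lhs => rw [← h4]
      rw [map_sum]
      exact Finset.sum_congr rfl fun i _ => map_smul _ _ _
    rw [h6, h5, act_sum, Submodule.coe_sum]
    exact Finset.sum_congr rfl fun i _ => by rw [act_smul, h1, Submodule.coe_smul]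

theorem sps_ti (hF : Fintype.card F = q ^ 2) (hp : p.Prime) {m : ℕ} (hm : 2 ≤ m)
    (hrow : SRow p (Matrix.ProjectiveSpecialLinearGroup (Fin m) F))
    (hc : SI q σ c) (hd : SI q τ d)
    (hcm : TIm q m c) (hdm : TIm q m d)
    (hcp : IsScal F (c ^ p)) (hdp : IsScal F (d ^ p)) : SPs F p (rho n F q).range c d := by
  classical
  obtain ⟨U, hUm, hU0, hcU, hcn⟩ := hcm
  obtain ⟨W, hWm, hW0, hdW, hdn⟩ := hdm
  let A := Module.finBasisOfFinrankEq F W hWm
  let B := Module.finBasisOfFinrankEq F U hUm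
  have hAli : LinearIndependent F (fun i => ((A i : W) : Fin n → F)) :=
    A.linearIndependent.map' W.subtype (Submodule.ker_subtype W)
  have hBli : LinearIndependent F (fun i => ((B i : U) : Fin n → F)) :=
    B.linearIndependent.map' U.subtype (Submodule.ker_subtype U)
  obtain ⟨s, hs⟩ := ti_move (q := q) hF (by omega) hAli hBli (fun i j => hW0 _ (A i).2 _ (A j).2)
    (fun i j => hU0 _ (B i).2 _ (B j).2)
  have hle : Submodule.span F (Set.range fun i => ((B i : U) : Fin n → F)) ≤ U := by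
    rw [Submodule.span_le]
    rintro _ ⟨i, rfl⟩
    exact (B i).2
  let L : (Fin n → F) →ₗ[F] (Fin n → F) :=
    { toFun := act s
      map_add' := act_add s
      map_smul' := fun a v => act_smul s a v }
  have hmap : W.map L = U := by
    apply Submodule.eq_of_le_of_finrank_eq
    · rintro _ ⟨w, hw, rfl⟩
      have h4 := A.sum_repr ⟨w, hw⟩
      have h5 : w = ∑ i, A.repr ⟨w, hw⟩ i • ((A i : W) : Fin n → F) := by
        have := congrArg (fun x : W => (x : Fin n → F)) h4
        simp only [Submodule.coe_sum, Submodule.coe_smul] at this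
        exact this.symm
      rw [h5]
      change act s _ ∈ U
      rw [act_sum]
      refine Submodule.sum_mem _ fun i _ => ?_
      rw [act_smul]
      exact Submodule.smul_mem _ _ (hle (hs i))
    · rw [← (Submodule.equivMapOfInjective L (act_injective s) W).finrank_eq, hWm, hUm]
  have hd2 : ∀ u, (rho n F q s * d * (rho n F q s)⁻¹) (act s u) = act s (d u) := by
    intro v
    rw [Equiv.Perm.mul_apply, Equiv.Perm.mul_apply]
    have h1 : (rho n F q s)⁻¹ (act s v) = v := by rw [← rho_apply, inv_apply_self]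
    rw [h1, rho_apply]
  refine sps_conj_right s (sps_ti_same hF hp hm hrow hc (hd.conj s) hUm hU0 hcU ?_ hcn ?_
    hcp ?_)
  · intro u hu
    rw [← hmap] at hu ⊢
    obtain ⟨w, hw, rfl⟩ := hu
    exact ⟨d w, hdW w hw, (hd2 w).symm⟩
  · rintro ⟨t, ht⟩
    apply hdn
    refine ⟨t, fun w hw => act_injective s ?_⟩
    have := ht (act s w) (by rw [← hmap]; exact ⟨w, hw, rfl⟩)
    rwa [hd2, ← act_smul] at this
  · obtain ⟨a, ha⟩ := hdp
    refine ⟨a, fun v => ?_⟩
    rw [conj_pow, Equiv.Perm.mul_apply, Equiv.Perm.mul_apply, ha, rho_apply, act_smul,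
      ← rho_apply, apply_inv_self]

end Cfsg.Agent.H43.SP
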