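import Cfsg.Agent.H236.S5U.BelowPSU
import Cfsg.Agent.H716.S5.Card
import Cfsg.Agent.LieClassical.SLGen
import Cfsg.Agent.H43.SP.Geo

/-!
# S2274, row `PSU`: the rows of `PSL_2(q)` and `PSL_m(q ^ 2)` from the rows of the groups smaller
than `PSU_n(q)`
-/

set_option autoImplicit false

universe u

namespace Cfsg.Agent.H43.SP

open Cfsg Cfsg.Agent.H533.T5 Cfsg.Agent.H132.S5 Cfsg.Agent.H957.T5U Cfsg.Agent.H716.S5
open Cfsg.Agent.LieClassical.HermBasic

theorem prod_split (q m : ℕ) :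
    ∏ i ∈ Finset.range (2 * m), (if Even i then q ^ (i + 1) + 1 else q ^ (i + 1) - 1) =
      (∏ i ∈ Finset.range m, ((q ^ 2) ^ (i + 1) - 1)) * ∏ j ∈ Finset.range m, (q ^ (2 * j + 1) + 1) := by
  induction m with
  | zero => simp
  | succ m ih =>
    rw [show 2 * (m + 1) = 2 * m + 1 + 1 by ring, Finset.prod_range_succ, Finset.prod_range_succ,
      ih, Finset.prod_range_succ _ m, Finset.prod_range_succ _ m, if_pos (even_two_mul m),
      if_neg (by rw [Nat.not_even_iff_odd]; exact odd_two_mul_add_one m), ← pow_mul,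
      show 2 * (m + 1) = 2 * m + 1 + 1 by ring]
    ring

theorem finite_psl {F : Type*} [Field F] [Finite F] (m : ℕ) :
    Finite (Matrix.ProjectiveSpecialLinearGroup (Fin m) F) := by
  unfold Matrix.ProjectiveSpecialLinearGroup
  infer_instance

theorem not_comm_of_perfect {G : Type*} [Group G] (hs : IsSimpleGroup G)
    (h : commutator G = ⊤) : ¬ IsMulCommutative G := by
  intro hc
  have h5 : commutator G = ⊥ := by
    rw [commutator_eq_bot_iff_center_eq_top, Subgroup.eq_top_iff']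
    intro x
    rw [Subgroup.mem_center_iff]
    exact fun y => hc.is_comm.comm y x
  rw [h] at h5
  exact top_ne_bot h5

theorem psl_simple {F : Type*} [Field F] [Fintype F] (h3 : 3 < Fintype.card F) {m : ℕ}
    (hm : 2 ≤ m) : IsSimpleGroup (Matrix.ProjectiveSpecialLinearGroup (Fin m) F) ∧
      ¬ IsMulCommutative (Matrix.ProjectiveSpecialLinearGroup (Fin m) F) := by
  have h1 : IsSimpleGroup (Matrix.ProjectiveSpecialLinearGroup (Fin m) F) ∧
      commutator (Matrix.SpecialLinearGroup (Fin m) F) = ⊤ := by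
    rcases hm.eq_or_lt with rfl | hm
    · exact ⟨TwoFusion.SLTwoFacts.isSimpleGroup_psl h3, TwoFusion.SLTwoFacts.commutator_eq_top h3⟩
    · exact ⟨Cfsg.Agent.LieClassical.SLGen.psl_isSimpleGroup (by rw [Fintype.card_fin]; omega),
        Cfsg.Agent.LieClassical.SLGen.commutator_eq_top (by rw [Fintype.card_fin]; omega)⟩
  refine ⟨h1.1, not_comm_of_perfect h1.1 ?_⟩
  exact Cfsg.Agent.H897.T5Sub.commutator_of_surjective h1.2 (f := QuotientGroup.mk' _)
    (QuotientGroup.mk'_surjective _)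

theorem card_psl_lt_psu {F : Type*} [Field F] [Fintype F] {q : ℕ} (hF : Fintype.card F = q ^ 2)
    {m : ℕ} (hm : 2 ≤ m) :
    Nat.card (Matrix.ProjectiveSpecialLinearGroup (Fin m) F) < Nat.card (PSU (2 * m) F q) := by
  have hq : 2 ≤ q := by
    have h1 : 1 < Fintype.card F := Fintype.one_lt_card
    rw [hF] at h1
    by_contra hcon
    have h2 : q ≤ 1 := by omega
    have h3 : q ^ 2 ≤ 1 ^ 2 := Nat.pow_le_pow_left h2 2
    omega
  have h1 := S0280.result hF (2 * m) (by omega)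
  have h2 := S0243.result hF m hm
  rw [prod_split] at h1
  rw [prod_gl] at h2
  set A := Nat.card (PSU (2 * m) F q) with hA
  set B := Nat.card (Matrix.ProjectiveSpecialLinearGroup (Fin m) F) with hB
  set X := ∏ i ∈ Finset.range m, ((q ^ 2) ^ (i + 1) - 1) with hX
  set Y := ∏ j ∈ Finset.range m, (q ^ (2 * j + 1) + 1) with hY
  have hq1 : q + 1 < q ^ 2 := by nlinarith
  have hX0 : 0 < X := by
    refine Finset.prod_pos fun i _ => ?_
    have : q ^ 2 ≤ (q ^ 2) ^ (i + 1) := Nat.le_self_pow (by omega) _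
    omega
  have hY0 : 0 < Y := Finset.prod_pos fun i _ => Nat.succ_pos _
  have e1 : 2 * m * (2 * m - 1) / 2 = m * (m - 1) + m ^ 2 := by
    obtain ⟨k, rfl⟩ : ∃ k, m = k + 1 := ⟨m - 1, by omega⟩
    have : 2 * (k + 1) * (2 * (k + 1) - 1) = 2 * ((k + 1) * (k + 1 - 1) + (k + 1) ^ 2) := by
      simp only [Nat.add_sub_cancel, show 2 * (k + 1) - 1 = 2 * k + 1 by omega]
      ring
    rw [this, Nat.mul_div_cancel_left _ (by norm_num)]
  have e2 : 2 * (m * (m - 1) / 2) = m * (m - 1) :=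
    Nat.mul_div_cancel' (Nat.even_mul_pred_self m).two_dvd
  rw [e1, pow_add] at h1
  rw [← pow_mul, e2] at h2
  have hg1 : Nat.gcd (2 * m) (q + 1) ≤ q + 1 := Nat.gcd_le_right _ (by omega)
  have hg0 : 1 ≤ Nat.gcd m (q ^ 2 - 1) := Nat.gcd_pos_of_pos_left _ (by omega)
  have hB1 : B ≤ q ^ (m * (m - 1)) * X := by
    rw [← h2]
    calc B = 1 * (1 * B) := by ring
      _ ≤ Nat.gcd m (q ^ 2 - 1) * ((q ^ 2 - 1) * B) :=
        Nat.mul_le_mul hg0 (Nat.mul_le_mul_right _ (by omega))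
  by_contra hcon
  push Not at hcon
  have h3 : q ^ (m * (m - 1)) * q ^ m ^ 2 * (X * Y) ≤ (q + 1) ^ 2 * (q ^ (m * (m - 1)) * X) := by
    rw [← h1]
    calc Nat.gcd (2 * m) (q + 1) * ((q + 1) * A) ≤ (q + 1) * ((q + 1) * B) :=
          Nat.mul_le_mul hg1 (Nat.mul_le_mul_left _ hcon)
      _ = (q + 1) ^ 2 * B := by ring
      _ ≤ _ := Nat.mul_le_mul_left _ hB1
  have h4 : (q + 1) ^ 2 < q ^ m ^ 2 * Y := by
    calc (q + 1) ^ 2 < (q ^ 2) ^ 2 := Nat.pow_lt_pow_left hq1 (by norm_num)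
      _ = q ^ (2 ^ 2) := by rw [← pow_mul]; norm_num
      _ ≤ q ^ m ^ 2 := Nat.pow_le_pow_right (by omega) (Nat.pow_le_pow_left hm 2)
      _ ≤ q ^ m ^ 2 * Y := Nat.le_mul_of_pos_right _ hY0
  have h5 : 0 < q ^ (m * (m - 1)) * X := Nat.mul_pos (pow_pos (by omega) _) hX0
  have h6 := Nat.mul_lt_mul_of_pos_right h4 h5
  have h7 : q ^ m ^ 2 * Y * (q ^ (m * (m - 1)) * X) = q ^ (m * (m - 1)) * q ^ m ^ 2 * (X * Y) := by
    ring
  omega

theorem card_psl2_lt_psu3 {F K : Type*} [Field F] [Fintype F] [Field K] [Fintype K] {q : ℕ}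
    (hF : Fintype.card F = q ^ 2) (hK : Fintype.card K = q) :
    Nat.card (Matrix.ProjectiveSpecialLinearGroup (Fin 2) K) < Nat.card (PSU 3 F q) := by
  have hq : 2 ≤ q := by
    have h1 : 1 < Fintype.card K := Fintype.one_lt_card
    omega
  have h1 := S0280.result hF 3 (by omega)
  have h2 := S0243.result hK 2 le_rfl
  rw [prod_gl] at h2
  simp only [Finset.prod_range_succ, Finset.prod_range_zero] at h1 h2
  set A := Nat.card (PSU 3 F q) with hA
  set B := Nat.card (Matrix.ProjectiveSpecialLinearGroup (Fin 2) K) with hB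
  rw [if_pos (by decide), if_neg (by decide), if_pos (by decide)] at h1
  have hq1 : q + 1 < q ^ 2 * (q ^ 3 + 1) := by
    have h3 : q + 1 < q ^ 2 := by nlinarith
    calc q + 1 < q ^ 2 := h3
      _ ≤ q ^ 2 * (q ^ 3 + 1) := Nat.le_mul_of_pos_right _ (Nat.succ_pos _)
  obtain ⟨r, hr⟩ : ∃ r, r = q - 1 := ⟨_, rfl⟩
  obtain ⟨s, hs⟩ : ∃ s, s = q ^ 2 - 1 := ⟨_, rfl⟩
  have hs0 : 0 < s := by
    have : q ≤ q ^ 2 := Nat.le_self_pow (by norm_num) q
    omega
  have h1' : Nat.gcd 3 (q + 1) * ((q + 1) * A) = q ^ 3 * ((q + 1) * s * (q ^ 3 + 1)) := by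
    rw [h1, hs]
    norm_num
  have h2' : Nat.gcd 2 r * (r * B) = q * (r * s) := by
    rw [hr, h2, hs]
    norm_num
  have hg1 : Nat.gcd 3 (q + 1) ≤ q + 1 := Nat.gcd_le_right _ (by omega)
  have hg0 : 1 ≤ Nat.gcd 2 r := Nat.gcd_pos_of_pos_left _ (by omega)
  have hr0 : 0 < r := by omega
  have hB1 : B ≤ q * s := by
    have : r * B ≤ r * (q * s) := by
      calc r * B = 1 * (r * B) := by ring
        _ ≤ Nat.gcd 2 r * (r * B) := Nat.mul_le_mul_right _ hg0
        _ = r * (q * s) := by rw [h2']; ring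
    exact Nat.le_of_mul_le_mul_left this hr0
  by_contra hcon
  push Not at hcon
  have h3 : (q + 1) * (q * s) * (q ^ 2 * (q ^ 3 + 1)) ≤ (q + 1) * (q * s) * (q + 1) := by
    calc (q + 1) * (q * s) * (q ^ 2 * (q ^ 3 + 1)) = q ^ 3 * ((q + 1) * s * (q ^ 3 + 1)) := by ring
      _ = Nat.gcd 3 (q + 1) * ((q + 1) * A) := h1'.symm
      _ ≤ (q + 1) * ((q + 1) * (q * s)) :=
        Nat.mul_le_mul hg1 (Nat.mul_le_mul_left _ (hcon.trans hB1))
      _ = _ := by ring
  have h4 := Nat.le_of_mul_le_mul_left h3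
    (Nat.mul_pos (Nat.succ_pos _) (Nat.mul_pos (by omega) hs0))
  omega

theorem below_psl2 {p : ℕ} {S : Type u} [Group S] [Finite S] {F : Type} [Field F] [Fintype F]
    {n q : ℕ} (hF : Fintype.card F = q ^ 2) (hn : 3 ≤ n) (hq : 4 ≤ q) (e : S ≃* PSU n F q)
    (hlt : SBelow.{u} p (Nat.card S)) :
    SRow p (Matrix.ProjectiveSpecialLinearGroup (Fin 2) (Kq hF)) := by
  classical
  have : Fintype (Kq hF) := Fintype.ofFinite _
  have hK : Fintype.card (Kq hF) = q := by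
    rw [← Nat.card_eq_fintype_card]
    exact card_fixed hF
  obtain ⟨hs, hna⟩ := psl_simple (F := Kq hF) (by omega) (m := 2) le_rfl
  have := finite_psl (F := Kq hF) 2
  refine SBelow.row hlt hna ?_
  rw [Nat.card_congr e.toEquiv]
  refine (card_psl2_lt_psu3 hF hK).trans_le ?_
  rcases hn.eq_or_lt with rfl | hn
  · exact le_rfl
  · exact (Cfsg.Agent.H236.S5U.card_psu_lt hF (by norm_num) hn).le

theorem below_psl {p : ℕ} {S : Type u} [Group S] [Finite S] {F : Type} [Field F] [Fintype F]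
    {n q : ℕ} (hF : Fintype.card F = q ^ 2) {m : ℕ} (hm : 2 ≤ m) (hmn : 2 * m ≤ n)
    (e : S ≃* PSU n F q) (hlt : SBelow.{u} p (Nat.card S)) :
    SRow p (Matrix.ProjectiveSpecialLinearGroup (Fin m) F) := by
  have h3 : 3 < Fintype.card F := by
    have := two_le hF
    rw [hF]
    nlinarith
  obtain ⟨hs, hna⟩ := psl_simple h3 hm
  have := finite_psl (F := F) m
  refine SBelow.row hlt hna ?_
  rw [Nat.card_congr e.toEquiv]
  refine (card_psl_lt_psu hF hm).trans_le ?_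
  rcases hmn.eq_or_lt with rfl | hmn
  · exact le_rfl
  · exact (Cfsg.Agent.H236.S5U.card_psu_lt hF (by omega) hmn).le

end Cfsg.Agent.H43.SP
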