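import Cfsg.Agent.H43.SP.Main
import Cfsg.Agent.H43.SP.BelowPSL
import Cfsg.Agent.H28.T5Sz32

/-!
# S2274: the strong row of `PSU_n(q)`, `n ≥ 3`, `p` not dividing `q`
-/

set_option autoImplicit false

universe u

namespace Cfsg.Agent.H43.SP

open Cfsg Cfsg.Agent.H533.T5 Cfsg.Agent.H132.S5 Cfsg.Agent.H957.T5U Cfsg.Agent.H106.MT

/-- **`PSU_n(q)`, `n ≥ 3`, `p` not dividing `q`.** -/
theorem psu_cross {p : ℕ} (hp : p.Prime) (hp5 : 5 ≤ p) (B : SBox.{u} p) :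
    ∀ (S : Type u) [Group S] [Finite S] [IsSimpleGroup S], ¬ IsMulCommutative S →
    ∀ (F : Type) [Field F] [Fintype F] (n q : ℕ), Fintype.card F = q ^ 2 → 3 ≤ n →
      ¬ (n = 3 ∧ q = 2) → ¬ p ∣ q →
      (S ≃* PSU n F q) → SBelow.{u} p (Nat.card S) → SRow p S := by
  intro S _ _ _ _ F _ _ n q hF hn h32 hpq e hlt
  have hpF : (p : F) ≠ 0 := by
    intro h
    obtain ⟨r, hr⟩ := CharP.exists F
    obtain ⟨k, hrp, hk⟩ := FiniteField.card F r
    have h1 : r ∣ p := (CharP.cast_eq_zero_iff F r p).1 h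
    have h2 : r = p := (Nat.prime_dvd_prime_iff_eq hrp hp).1 h1
    have h3 : p ∣ q ^ 2 := by
      rw [← hF, hk, h2]
      exact dvd_pow_self p k.pos.ne'
    exact hpq (hp.dvd_of_dvd_pow h3)
  refine Cfsg.Agent.H897.T5Sub.SRow.congr e.symm ?_
  exact srow_psu hF hn hp hp5 hpF h32 (Cfsg.Agent.H28.T5Sz32.aahyp_down B.aa)
    (Cfsg.Agent.H236.S5U.rsHyp_down B.rs)
    { h1 := fun hq => below_psl2 hF hn hq e hlt
      h2 := fun m hm hmn => below_psl hF hm hmn e hlt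
      h3 := fun m hm hmn h => Cfsg.Agent.H236.S5U.below_psu hF hm hmn h e hlt }

end Cfsg.Agent.H43.SP
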