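import Cfsg.Agent.H43.SP.Geo

/-!
# S2274, row `PSU`, cross characteristic: nondegenerate blocks

`Blk q c b` : `b` is orthonormal, its span is invariant under `c` and `c` is not a scalar on it.
`sps_blk` : two semilinear isometries with blocks of the same dimension `m < n` and the strong row
of `PSU_m(q)`.
-/

set_option autoImplicit false

namespace Cfsg.Agent.H43.SP

open Cfsg Cfsg.Agent.LieClassical.HermBasic Cfsg.Agent.LieClassical.HermSiegel
open Cfsg.Agent.H533.T5 Cfsg.Agent.H106.MT Cfsg.Agent.H132.S5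
open Cfsg.Agent.H957.T5V Cfsg.Agent.H957.T5Conf Cfsg.Agent.H957.T5Pairs Cfsg.Agent.H957.T5U
open Cfsg.Agent.H177.MeetPSU (rho rho_apply)
open Cfsg.Agent.ClassicalGeometry.HermOrtho
open scoped Matrix

variable {F : Type} [Field F] {n m q p : ℕ}
variable {σ τ : F ≃+* F} {c c' d d' : Equiv.Perm (Fin n → F)}

/-- An invariant nondegenerate subspace on which `c` is not a scalar. -/
structure Blk (q : ℕ) (c : Equiv.Perm (Fin n → F)) (b : Fin m → (Fin n → F)) : Prop where
  on : ∀ i j, hermForm n F q (b i) (b j) = if i = j then 1 else 0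
  inv : ∀ v ∈ Submodule.span F (Set.range b), c v ∈ Submodule.span F (Set.range b)
  ns : ¬ ∃ t : F, ∀ v ∈ Submodule.span F (Set.range b), c v = t • v

/-- Coordinates. -/
def iob (b : Fin m → (Fin n → F)) (v : Fin m → F) : Fin n → F := ∑ i, v i • b i

section iob

variable {b : Fin m → (Fin n → F)}

theorem iob_add (u v : Fin m → F) : iob b (u + v) = iob b u + iob b v := by
  simp only [iob, Pi.add_apply, add_smul, Finset.sum_add_distrib]

theorem iob_smul (a : F) (v : Fin m → F) : iob b (a • v) = a • iob b v := by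
  simp only [iob, Pi.smul_apply, smul_eq_mul, Finset.smul_sum, smul_smul]

theorem iob_mem (v : Fin m → F) : iob b v ∈ Submodule.span F (Set.range b) :=
  Submodule.sum_mem _ fun i _ => Submodule.smul_mem _ _ (Submodule.subset_span ⟨i, rfl⟩)

theorem exists_iob {x : Fin n → F} (h : x ∈ Submodule.span F (Set.range b)) :
    ∃ v, iob b v = x := by
  rw [Submodule.mem_span_range_iff_exists_fun] at h
  exact h

theorem iob_single (i : Fin m) : iob b (Pi.single i 1) = b i := by
  rw [iob, Finset.sum_eq_single i]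
  · simp
  · intro j _ hj
    simp [Pi.single_eq_of_ne hj]
  · intro h
    exact absurd (Finset.mem_univ _) h

theorem iob_inj (hb : ∀ i j, hermForm n F q (b i) (b j) = if i = j then 1 else 0) :
    Function.Injective (iob b) := by
  intro u v h
  funext j
  have h1 := congrArg (fun x => hermForm n F q x (b j)) h
  simp only [iob, herm_sum_smul_left hb] at h1
  exact h1

variable [Fintype F]

theorem herm_iob (hF : Fintype.card F = q ^ 2)
    (hb : ∀ i j, hermForm n F q (b i) (b j) = if i = j then 1 else 0) (u v : Fin m → F) :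
    hermForm n F q (iob b u) (iob b v) = hermForm m F q u v := by
  rw [iob, iob, herm_sum_right hF]
  simp only [herm_smul_right, herm_sum_smul_left hb]
  unfold hermForm
  exact Finset.sum_congr rfl fun i _ => mul_comm _ _

theorem Blk.res (hF : Fintype.card F = q ^ 2) (hc : SI q σ c) (h : Blk q c b) :
    ∃ c0 : Equiv.Perm (Fin m → F), Res (iob b) c c0 ∧ SI q σ c0 ∧ ¬ IsScal F c0 := by
  have hinj := iob_inj h.on
  obtain ⟨c0, hc0⟩ := exists_res (x := c) hinj (fun v => by
    obtain ⟨w, hw⟩ := exists_iob (h.inv _ (iob_mem v))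
    exact ⟨w, hw.symm⟩)
  refine ⟨c0, hc0, ⟨⟨fun u v => hinj ?_, fun a v => hinj ?_⟩, fun u v => ?_⟩, ?_⟩
  · rw [← hc0, iob_add, hc.semi.add, hc0, hc0, iob_add]
  · rw [← hc0, iob_smul, hc.semi.smul, hc0, iob_smul]
  · rw [← herm_iob hF h.on, ← herm_iob hF h.on, ← hc0, ← hc0, hc.herm]
  · rintro ⟨t, ht⟩
    apply h.ns
    refine ⟨t, fun v hv => ?_⟩
    obtain ⟨w, rfl⟩ := exists_iob hv
    rw [hc0, ht, iob_smul]

theorem nondeg_span (_ : Fintype.card F = q ^ 2)
    (hb : ∀ i j, hermForm n F q (b i) (b j) = if i = j then 1 else 0) :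
    ∀ u ∈ Submodule.span F (Set.range b),
      (∀ v ∈ Submodule.span F (Set.range b), hermForm n F q u v = 0) → u = 0 := by
  intro u hu h
  obtain ⟨v, rfl⟩ := exists_iob hu
  have h1 : ∀ j, v j = 0 := by
    intro j
    rw [← herm_sum_smul_left hb v j]
    exact h _ (Submodule.subset_span ⟨j, rfl⟩)
  have h2 : v = 0 := funext h1
  rw [h2]
  simp [iob]

/-- A non-isotropic vector orthogonal to the block. -/
theorem exists_z_blk (hF : Fintype.card F = q ^ 2) (hmn : m < n)
    (hb : ∀ i j, hermForm n F q (b i) (b j) = if i = j then 1 else 0) :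
    ∃ z, hermForm n F q z z ≠ 0 ∧
      ∀ v ∈ Submodule.span F (Set.range b), hermForm n F q z v = 0 := by
  have hW := nondeg_span hF hb
  have h1 := finrank_hermPerp_of_nondeg hF _ hW
  rw [finrank_span_eq_card (linearIndependent_of_orthonormal hb), Fintype.card_fin] at h1
  obtain ⟨z, hz, hzz⟩ := exists_norm_one_vector hF _ (hermPerp_nondeg hF _ hW) (by
    intro h0
    rw [h0, finrank_bot] at h1
    omega)
  exact ⟨z, by rw [hzz]; exact one_ne_zero, fun v hv => hz v hv⟩

/-- Two orthonormal systems of `m < n` vectors are conjugate under `SU`. -/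
theorem exists_su_onb (hF : Fintype.card F = q ^ 2) (hmn : m < n) {a : Fin m → (Fin n → F)}
    (ha : ∀ i j, hermForm n F q (a i) (a j) = if i = j then 1 else 0)
    (hb : ∀ i j, hermForm n F q (b i) (b j) = if i = j then 1 else 0) :
    ∃ s : SU n F q, ∀ i, act s (a i) = b i := by
  obtain ⟨z, hz, hzb⟩ := exists_z_blk hF hmn hb
  exact Cfsg.Agent.H77.Witt.exists_su_ext hF a b (linearIndependent_of_orthonormal ha)
    (linearIndependent_of_orthonormal hb) (fun i j => by rw [ha, hb]) hz
    (fun i => hzb _ (Submodule.subset_span ⟨i, rfl⟩))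

/-- `SU_m` extends to `SU_n`. -/
theorem exists_ext_blk (hF : Fintype.card F = q ^ 2) (hmn : m < n)
    (hb : ∀ i j, hermForm n F q (b i) (b j) = if i = j then 1 else 0) (s0 : SU m F q) :
    ∃ s : SU n F q, Res (iob b) (rho n F q s) (rho m F q s0) := by
  have h1 : ∀ i j, hermForm n F q (iob b (act s0 (Pi.single i 1))) (iob b (act s0 (Pi.single j 1)))
      = if i = j then 1 else 0 := by
    intro i j
    rw [herm_iob hF hb, herm_act, ← hb i j, ← herm_iob hF hb, iob_single, iob_single]
  obtain ⟨s, hs⟩ := exists_su_onb hF hmn hb h1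
  refine ⟨s, fun v => ?_⟩
  rw [rho_apply, rho_apply]
  have h2 : v = ∑ i, v i • (Pi.single i 1 : Fin m → F) := by
    funext j
    simp [Finset.sum_apply, Pi.single_apply]
  have h3 : act s0 v = ∑ i, v i • act s0 (Pi.single i 1 : Fin m → F) := by
    conv_lhs => rw [h2]
    rw [act_sum]
    exact Finset.sum_congr rfl fun i _ => act_smul _ _ _
  rw [h3]
  have h4 : ∀ (f : Fin m → (Fin m → F)), iob b (∑ i, v i • f i) = ∑ i, v i • iob b (f i) := by
    intro f
    have h5 : ∀ t : Finset (Fin m), iob b (∑ i ∈ t, v i • f i) = ∑ i ∈ t, v i • iob b (f i) := by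
      intro t
      induction t using Finset.induction_on with
      | empty => simp [iob]
      | insert a t ha ih => rw [Finset.sum_insert ha, Finset.sum_insert ha, iob_add, iob_smul, ih]
    exact h5 _
  rw [h4, iob, act_sum]
  exact Finset.sum_congr rfl fun i _ => by rw [act_smul, hs]

end iob

variable [Fintype F] {b b' : Fin m → (Fin n → F)}

theorem Blk.move (_ : Fintype.card F = q ^ 2) (h : Blk q d b') {s : SU n F q}
    (hs : ∀ i, act s (b' i) = b i)
    (hb : ∀ i j, hermForm n F q (b i) (b j) = if i = j then 1 else 0) :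
    Blk q (rho n F q s * d * (rho n F q s)⁻¹) b := by
  have hd2 : ∀ u, (rho n F q s * d * (rho n F q s)⁻¹) (act s u) = act s (d u) := by
    intro v
    rw [Equiv.Perm.mul_apply, Equiv.Perm.mul_apply]
    have h1 : (rho n F q s)⁻¹ (act s v) = v := by rw [← rho_apply, inv_apply_self]
    rw [h1, rho_apply]
  have hio : ∀ v, iob b v = act s (iob b' v) := by
    intro v
    rw [iob, iob, act_sum]
    exact Finset.sum_congr rfl fun i _ => by rw [act_smul, hs]
  refine ⟨hb, fun v hv => ?_, ?_⟩
  · obtain ⟨w, rfl⟩ := exists_iob hv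
    rw [hio, hd2]
    obtain ⟨w', hw'⟩ := exists_iob (h.inv _ (iob_mem w))
    rw [← hw', ← hio]
    exact iob_mem _
  · rintro ⟨t, ht⟩
    apply h.ns
    refine ⟨t, fun v hv => act_injective s ?_⟩
    obtain ⟨w, rfl⟩ := exists_iob hv
    have h1 := ht _ (iob_mem w)
    rwa [hio, hd2, ← act_smul] at h1

/-- **Blocks.** -/
theorem sps_blk (hF : Fintype.card F = q ^ 2) (hm : 3 ≤ m) (hmn : m < n) (hp : p.Prime)
    (hrow : SRow p (PSU m F q)) (hc : SI q σ c) (hd : SI q τ d) (h : Blk q c b)
    (h' : Blk q d b') (hcp : IsScal F (c ^ p)) (hdp : IsScal F (d ^ p)) :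
    SPs F p (rho n F q).range c d := by
  obtain ⟨s, hs⟩ := exists_su_onb hF hmn h'.on h.on
  refine sps_conj_right s ?_
  obtain ⟨c0, hc0, hcs, hcn⟩ := h.res hF hc
  obtain ⟨d0, hd0, hds, hdn⟩ := (h'.move hF hs h.on).res hF (hd.conj s)
  have hinj := iob_inj h.on
  have key : ∀ (w : Equiv.Perm (Fin n → F)) (w0 : Equiv.Perm (Fin m → F)), Res (iob b) w w0 →
      IsScal F w → IsScal F w0 := by
    rintro w w0 hw ⟨a, ha⟩
    refine ⟨a, fun v => hinj ?_⟩
    rw [← hw, ha, iob_smul]
  have hdp' : IsScal F ((rho n F q s * d * (rho n F q s)⁻¹) ^ p) := by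
    rw [conj_pow]
    exact isScal_conj (si_rho s).semi hdp
  refine SPs.of_res hinj hc0 hd0 ?_ key (sps_SU hF hm hp hrow hcs hds (key _ _ (hc0.pow p) hcp)
    hcn (key _ _ (hd0.pow p) hdp') hdn)
  rintro _ ⟨s0, rfl⟩
  obtain ⟨s, hs⟩ := exists_ext_blk hF hmn h.on s0
  exact ⟨_, ⟨s, rfl⟩, hs⟩

end Cfsg.Agent.H43.SP
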