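import Cfsg.Agent.H43.SP.Geo
import Cfsg.Agent.H957.T5U4

/-!
# S2274, row `PSU`, cross characteristic: the configurations K, R, E, part (b) with exact products

The theorems `up_K`, `up_R`, `up_E` of H957/T5U4 (helper957) for `BPs`.
-/

set_option autoImplicit false

namespace Cfsg.Agent.H43.SP

open Cfsg Cfsg.Agent.LieClassical.HermBasic Cfsg.Agent.LieClassical.HermSiegel
open Cfsg.Agent.H533.T5 Cfsg.Agent.H106.MT Cfsg.Agent.H132.S5
open Cfsg.Agent.H957.T5V Cfsg.Agent.H957.T5Conf Cfsg.Agent.H957.T5Pairs Cfsg.Agent.H957.T5U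
  Cfsg.Agent.H957.T5Two Cfsg.Agent.H957.T5Semi
open Cfsg.Agent.H177.MeetPSU (rho rho_apply)

variable {F : Type} [Field F] [Fintype F] {n q p : ℕ}
variable {σ τ : F ≃+* F} {c c' d d' : Equiv.Perm (Fin n → F)}

/-- It suffices to find suitable products for all elements with prescribed action on a family. -/
theorem bps_of_family (hF : Fintype.card F = q ^ 2) (hd : SI q τ d) {k : ℕ}
    {a b : Fin k → (Fin n → F)} (ha : LinearIndependent F a) (hb : LinearIndependent F b)
    (hab : ∀ i j, hermForm n F q (a i) (a j) = hermForm n F q (b i) (b j))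
    {z : Fin n → F} (hz : hermForm n F q z z ≠ 0) (hzb : ∀ i, hermForm n F q z (b i) = 0)
    (h : ∀ d' : Equiv.Perm (Fin n → F), SI q τ d' → ∀ s : SU n F q, (∀ i, act s (a i) = b i) →
      (∀ x, d' (act s x) = act s (d x)) → (∀ m : ℕ, ¬ IsScal F ((c * d') ^ p ^ m))) :
    BPs F p (rho n F q).range c d := by
  obtain ⟨s, hs⟩ := Cfsg.Agent.H77.Witt.exists_su_ext hF a b ha hb hab hz hzb
  refine ⟨rho n F q s, ⟨s, rfl⟩, fun m => ?_⟩
  refine h _ (hd.conj s) s hs (fun x => ?_) m
  rw [Equiv.Perm.mul_apply, Equiv.Perm.mul_apply]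
  have h1 : (rho n F q s)⁻¹ (act s x) = x := by
    rw [← rho_apply, inv_apply_self]
  rw [h1, rho_apply]

theorem bps_K (hF : Fintype.card F = q ^ 2) (hn : 5 ≤ n) (hpF : (p : F) ≠ 0)
    (hc : SI q (1 : F ≃+* F) c) (hd : SI q (1 : F ≃+* F) d) (h1 : D5 q c) (h2 : D5 q d) :
    BPs F p (rho n F q).range c d := by
  obtain ⟨b, hb0, hb⟩ := exists_trace_zero_ne hF
  have hbq : b ^ q = -b := by linear_combination hb
  have h0q : (0 : F) ^ q = 0 := zero_pow_q hF
  have hnbq : (-b) ^ q = b := by rw [neg_pow_q hF, hbq, neg_neg]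
  obtain ⟨w, hwli, w0, w1, w2⟩ := h1 0 (-b) 0 h0q (Or.inr (neg_ne_zero.2 hb0))
  obtain ⟨u, huli, u0, u1, u2⟩ := h2 0 b b h0q (Or.inr hb0)
  have hcc : ∀ x y, hermForm n F q (c x) (c y) = hermForm n F q x y := fun x y => hc.herm x y
  have hdd : ∀ x y, hermForm n F q (d x) (d y) = hermForm n F q x y := fun x y => hd.herm x y
  have w1' : hermForm n F q w (c w) = b := by rw [herm_swap hF (c w) w, w1, hnbq]
  have w2' : hermForm n F q w (c (c w)) = 0 := by rw [herm_swap hF (c (c w)) w, w2, h0q]
  have u1' : hermForm n F q u (d u) = -b := by rw [herm_swap hF (d u) u, u1, hbq]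
  have u2' : hermForm n F q u (d (d u)) = -b := by rw [herm_swap hF (d (d u)) u, u2, hbq]
  have hbli : LinearIndependent F ![c (c w), c w, w + c w] := by
    rw [li3_iff] at hwli ⊢
    intro x y z h
    obtain ⟨e1, e2, e3⟩ := hwli z (y + z) x (by rw [← h]; module)
    subst e1 e3
    exact ⟨rfl, by simpa using e2, rfl⟩
  obtain ⟨z, hz, hzb⟩ := exists_z hF hbli (by omega) (e := c (c w)) (f := c w)
    (Submodule.subset_span ⟨0, rfl⟩) (Submodule.subset_span ⟨1, rfl⟩)
    (by rw [hcc, hcc, w0]) (by rw [hcc, w1]; exact neg_ne_zero.2 hb0)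
  refine bps_of_family hF hd (a := ![u, d u, d (d u)]) huli hbli ?_ hz hzb ?_
  · intro i j
    fin_cases i <;> fin_cases j
    · change hermForm n F q u u = hermForm n F q (c (c w)) (c (c w))
      rw [hcc, hcc, u0, w0]
    · change hermForm n F q u (d u) = hermForm n F q (c (c w)) (c w)
      rw [hcc, u1', w1]
    · change hermForm n F q u (d (d u)) = hermForm n F q (c (c w)) (w + c w)
      rw [herm_add_right hF, hcc, w2, w1, u2', zero_add]
    · change hermForm n F q (d u) u = hermForm n F q (c w) (c (c w))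
      rw [hcc, u1, w1']
    · change hermForm n F q (d u) (d u) = hermForm n F q (c w) (c w)
      rw [hcc, hdd, u0, w0]
    · change hermForm n F q (d u) (d (d u)) = hermForm n F q (c w) (w + c w)
      rw [herm_add_right hF, hcc, hdd, w1, w0, u1', add_zero]
    · change hermForm n F q (d (d u)) u = hermForm n F q (w + c w) (c (c w))
      rw [herm_add_left, hcc, w2', w1', u2, zero_add]
    · change hermForm n F q (d (d u)) (d u) = hermForm n F q (w + c w) (c w)
      rw [herm_add_left, hcc, hdd, w1', w0, u1, add_zero]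
    · change hermForm n F q (d (d u)) (d (d u)) = hermForm n F q (w + c w) (w + c w)
      rw [herm_add_left, herm_add_right hF, herm_add_right hF, hcc, hdd, hdd, w1', w1, w0, u0]
      ring
  · intro d' hd' s hs hds m
    have s0 : act s u = c (c w) := hs 0
    have s1 : act s (d u) = c w := hs 1
    have s2 : act s (d (d u)) = w + c w := hs 2
    refine not_scal_jordan (hc.semi.mul hd'.semi) (v0 := c (c w)) (v1 := c w) ?_ ?_ ?_
      (cast_pow_ne hpF m)
    · exact hbli.ne_zero 0
    · rw [Equiv.Perm.mul_apply]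
      conv_lhs => rw [← s0, hds, s1]
    · rw [Equiv.Perm.mul_apply]
      conv_lhs => rw [← s1, hds, s2, hc.semi.add]

theorem bps_R (hF : Fintype.card F = q ^ 2) (hn : 5 ≤ n) (hpF : (p : F) ≠ 0)
    (hc : SI q (1 : F ≃+* F) c) (hd : SI q τ d) (h1 : D5 q c) (h2 : RI q d) :
    BPs F p (rho n F q).range c d := by
  obtain ⟨u0, u1, hu1, n1, n01, n0, hβ⟩ := h2
  have h1q : (1 : F) ^ q = 1 := one_pow q
  -- data for `c`, shifted by `c`
  obtain ⟨w, hwli, w0, w1, w2⟩ := h1 1 1 (1 - hermForm n F q u0 (d u0)) h1q (Or.inl one_ne_zero)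
  have hcc : ∀ x y, hermForm n F q (c x) (c y) = hermForm n F q x y := fun x y => hc.herm x y
  have w1' : hermForm n F q w (c w) = 1 := by rw [herm_swap hF (c w) w, w1, h1q]
  have n01' : hermForm n F q u1 u0 = 0 := herm_eq_zero_swap hF n01
  have n10 : hermForm n F q (d u0) u1 = 0 := by
    have := hd.herm u0 u1
    rwa [hu1, n01, map_zero] at this
  have n10' : hermForm n F q u1 (d u0) = 0 := herm_eq_zero_swap hF n10
  have n00 : hermForm n F q (d u0) (d u0) = 0 := by rw [hd.herm, n0, map_zero]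
  -- `v1 = c w`, `c⁻¹ v1 = w`
  have hbli : LinearIndependent F ![c w, c (c w) - c w, c w - w] := by
    rw [li3_iff] at hwli ⊢
    intro x y z h
    obtain ⟨e1, e2, e3⟩ := hwli (-z) (x - y + z) y (by rw [← h]; module)
    have e1' : z = 0 := neg_eq_zero.1 e1
    subst e1' e3
    exact ⟨by simpa using e2, rfl, rfl⟩
  have hali : LinearIndependent F ![u1, u0, d u0] := by
    rw [li3_iff]
    intro x y z h
    have h3 : hermForm n F q (x • u1 + y • u0 + z • d u0) u1 = 0 := by
      rw [h]; exact herm_zero_left _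
    rw [herm_add_left, herm_add_left, herm_smul_left, herm_smul_left, herm_smul_left, n1, n01, n10,
      mul_zero, mul_zero, mul_one, add_zero, add_zero] at h3
    have h4 : hermForm n F q (x • u1 + y • u0 + z • d u0) (d u0) = 0 := by
      rw [h]; exact herm_zero_left _
    rw [herm_add_left, herm_add_left, herm_smul_left, herm_smul_left, herm_smul_left, n10', n00,
      mul_zero, mul_zero, zero_add, add_zero] at h4
    have hy : y = 0 := (mul_eq_zero.1 h4).resolve_right hβ
    have h5 : hermForm n F q u0 (x • u1 + y • u0 + z • d u0) = 0 := by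
      rw [h]; exact herm_zero_right hF _
    rw [herm_add_right hF, herm_add_right hF, herm_smul_right, herm_smul_right, herm_smul_right,
      n01, n0, mul_zero, mul_zero, zero_add, zero_add] at h5
    exact ⟨h3, hy, (pow_q_eq_zero hF).1 ((mul_eq_zero.1 h5).resolve_right hβ)⟩
  have k00 : hermForm n F q (c (c w) - c w) (c (c w) - c w) = 0 := by
    simp only [herm_sub_left, herm_sub_right hF, hcc, w0, w1, w1']
    ring
  have k22 : hermForm n F q (c w - w) (c w - w) = 0 := by
    simp only [herm_sub_left, herm_sub_right hF, hcc, w0, w1, w1']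
    ring
  have k12 : hermForm n F q (c (c w) - c w) (c w - w) = hermForm n F q u0 (d u0) := by
    simp only [herm_sub_left, herm_sub_right hF, hcc, w0, w1, w2]
    ring
  obtain ⟨z, hz, hzb⟩ := exists_z hF hbli (by omega) (e := c (c w) - c w) (f := c w - w)
    (Submodule.subset_span ⟨1, rfl⟩) (Submodule.subset_span ⟨2, rfl⟩) k00 (by rw [k12]; exact hβ)
  refine bps_of_family hF hd (a := ![u1, u0, d u0]) hali hbli ?_ hz hzb ?_
  · intro i j
    fin_cases i <;> fin_cases j
    · change hermForm n F q u1 u1 = hermForm n F q (c w) (c w)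
      rw [hcc, n1, w0]
    · change hermForm n F q u1 u0 = hermForm n F q (c w) (c (c w) - c w)
      rw [herm_sub_right hF, hcc, hcc, w1', w0, n01', sub_self]
    · change hermForm n F q u1 (d u0) = hermForm n F q (c w) (c w - w)
      rw [herm_sub_right hF, hcc, w1, w0, n10', sub_self]
    · change hermForm n F q u0 u1 = hermForm n F q (c (c w) - c w) (c w)
      rw [herm_sub_left, hcc, hcc, w1, w0, n01, sub_self]
    · exact n0.trans k00.symm
    · exact k12.symm
    · change hermForm n F q (d u0) u1 = hermForm n F q (c w - w) (c w)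
      rw [herm_sub_left, hcc, w1', w0, n10, sub_self]
    · change hermForm n F q (d u0) u0 = hermForm n F q (c w - w) (c (c w) - c w)
      rw [herm_swap hF u0 (d u0), herm_swap hF (c (c w) - c w) (c w - w), k12]
    · exact n00.trans k22.symm
  · intro d' hd' s hs hds m
    have s0 : act s u1 = c w := hs 0
    have s1 : act s u0 = c (c w) - c w := hs 1
    have s2 : act s (d u0) = c w - w := hs 2
    refine not_scal_jordan (hc.semi.mul hd'.semi) (v0 := c (c w) - c w) (v1 := c w) ?_ ?_ ?_
      (cast_pow_ne hpF m)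
    · exact hbli.ne_zero 1
    · rw [Equiv.Perm.mul_apply]
      conv_lhs => rw [← s1, hds, s2, hc.semi.sub]
    · rw [Equiv.Perm.mul_apply]
      conv_lhs => rw [← s0, hds, hu1, s0]
      module

theorem bps_E (hF : Fintype.card F = q ^ 2) (hn : 3 ≤ n)
    (hc : SI q (1 : F ≃+* F) c) (hd : SI q τ d) (h1 : D3 q c) {u0 : Fin n → F}
    (n0 : hermForm n F q u0 u0 = 0) (hβ : hermForm n F q u0 (d u0) ≠ 0) {ν : F}
    (hν0 : ν ≠ 0) (hνq : ν ^ q = ν) (hντ : τ ν = ν) (hν : ∀ m : ℕ, ν ^ p ^ m ≠ 1) :
    BPs F p (rho n F q).range c d := by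
  obtain ⟨α, hα0, hα⟩ := exists_norm_eq_ne hF hνq hν0
  have hαq0 : α ^ q ≠ 0 := pow_ne_zero _ hα0
  have hαν : α * α ^ q = ν := by rw [← hα]
  obtain ⟨w, w0, w1⟩ := h1 (hermForm n F q u0 (d u0) / α ^ q) (div_ne_zero hβ hαq0)
  have hcc : ∀ x y, hermForm n F q (c x) (c y) = hermForm n F q x y := fun x y => hc.herm x y
  have n00 : hermForm n F q (d u0) (d u0) = 0 := by rw [hd.herm, n0, map_zero]
  have hali : LinearIndependent F ![u0, d u0] := li_of_hyp hF hβ n0 n00 rfl
  have k0 : hermForm n F q (c w) (c w) = 0 := by rw [hcc, w0]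
  have k1 : hermForm n F q (α • w) (α • w) = 0 := by
    rw [herm_smul_left, herm_smul_right, w0, mul_zero, mul_zero]
  have k01 : hermForm n F q (c w) (α • w) = hermForm n F q u0 (d u0) := by
    rw [herm_smul_right, w1]
    field_simp
  have hbli : LinearIndependent F ![c w, α • w] := li_of_hyp hF hβ k0 k1 k01
  obtain ⟨z, hz, hzb⟩ := exists_z hF hbli (by omega) (e := c w) (f := α • w)
    (Submodule.subset_span ⟨0, rfl⟩) (Submodule.subset_span ⟨1, rfl⟩) k0 (by rw [k01]; exact hβ)
  refine bps_of_family hF hd (a := ![u0, d u0]) hali hbli ?_ hz hzb ?_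
  · intro i j
    fin_cases i <;> fin_cases j
    · exact n0.trans k0.symm
    · exact k01.symm
    · change hermForm n F q (d u0) u0 = hermForm n F q (α • w) (c w)
      rw [herm_swap hF u0 (d u0), herm_swap hF (c w) (α • w), k01]
    · exact n00.trans k1.symm
  · intro d' hd' s hs hds m
    have s0 : act s u0 = c w := hs 0
    have s1 : act s (d u0) = α • w := hs 1
    rintro ⟨t, ht⟩
    have hx : SI q (1 * τ) (c * d') := hc.mul hd'
    have hxw : (c * d') (c w) = α • c w := by
      rw [Equiv.Perm.mul_apply]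
      conv_lhs => rw [← s0, hds, s1, hc.semi.smul]
      rfl
    have h2 := pow_eigen hx.semi hxw (p ^ m)
    rw [ht, one_mul] at h2
    have hcw0 : c w ≠ 0 := hbli.ne_zero 0
    have ht2 : t = nm τ α (p ^ m) := by
      have h3 : (t - nm τ α (p ^ m)) • c w = 0 := by rw [sub_smul, h2, sub_self]
      exact sub_eq_zero.1 ((smul_eq_zero.1 h3).resolve_right hcw0)
    have h4 := scal_norm (by omega) (hx.pow (p ^ m)) ht
    rw [ht2, ← nm_pow, ← nm_mul, hαν, nm_fixed hντ] at h4
    exact hν m h4

end Cfsg.Agent.H43.SP
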