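import Cfsg.Agent.H43.SP.Types
import Cfsg.Agent.H43.SP.KRE
import Cfsg.Agent.H132.S5.CycChar
import Cfsg.Agent.LieClassical.HermPerfect
import Cfsg.Agent.LieClassical.HermSimple

/-!
# S2274, row `PSU_n(q)`, cross characteristic, `n` = the order of `q ^ 2` modulo `p`

The Sylow `p`-subgroups are cyclic.
-/

set_option autoImplicit false

namespace Cfsg.Agent.H43.SP

open Cfsg Cfsg.Agent.LieClassical.HermBasic Cfsg.Agent.LieClassical.HermSiegel
open Cfsg.Agent.H533.T5 Cfsg.Agent.H106.MB Cfsg.Agent.H106.MT Cfsg.Agent.H132.S5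
open Cfsg.Agent.H957.T5V Cfsg.Agent.H957.T5Tr Cfsg.Agent.H957.T5Conf Cfsg.Agent.H957.T5Pairs
  Cfsg.Agent.H957.T5U
open Cfsg.Agent.LieClassical.SUBasic Cfsg.Agent.ClassicalGeometry.PSUAutCount
  Cfsg.Agent.ClassicalGeometry.UnitAutBasic
open Cfsg.Agent.H903.SylSemi (Ind scal scal_apply)
open Cfsg.Agent.H177.MeetPSU (rho rho_apply rho_injective)
open Polynomial

section cyc

variable {F V : Type*} [Field F] [AddCommGroup V] [Module F V] {f : Module.End F V} {P : F[X]}

theorem dvd_of_aeval (hirr : Irreducible P) {w : V} (hw0 : w ≠ 0) (hPw : aeval f P w = 0)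
    {a : F[X]} (ha : aeval f a w = 0) : P ∣ a := by
  by_contra hcon
  obtain ⟨A, B, hAB⟩ := (hirr.coprime_iff_not_dvd (n := a)).2 hcon
  apply hw0
  have := congrArg (fun r => aeval f r w) hAB
  simp only [map_add, LinearMap.add_apply, map_one, Module.End.one_apply, map_mul,
    Module.End.mul_apply, ha, hPw, map_zero, add_zero] at this
  exact this.symm

theorem cyclic_vector [FiniteDimensional F V] (hirr : Irreducible P) {w : V} (hw0 : w ≠ 0)
    (hPw : aeval f P w = 0) (hdeg : P.natDegree = Module.finrank F V) (v : V) :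
    ∃ a : F[X], aeval f a w = v := by
  let Φ : Polynomial.degreeLT F P.natDegree →ₗ[F] V :=
    (LinearMap.applyₗ w) ∘ₗ (aeval f).toLinearMap ∘ₗ (Polynomial.degreeLT F P.natDegree).subtype
  have hΦ : ∀ a : Polynomial.degreeLT F P.natDegree, Φ a = aeval f (a : F[X]) w := fun a => rfl
  have hinj : Function.Injective Φ := by
    rw [injective_iff_map_eq_zero]
    intro a ha
    rw [hΦ] at ha
    apply Subtype.ext
    have h1 := Polynomial.mem_degreeLT.1 a.2
    rw [← Polynomial.degree_eq_natDegree hirr.ne_zero] at h1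
    exact eq_zero_of_dvd_of_degree_lt (dvd_of_aeval hirr hw0 hPw ha) h1
  have hfr : Module.finrank F (LinearMap.range Φ) = Module.finrank F V := by
    rw [LinearMap.finrank_range_of_inj hinj,
      (Polynomial.degreeLTEquiv F P.natDegree).finrank_eq, Module.finrank_fin_fun, hdeg]
  have htop : LinearMap.range Φ = ⊤ := Submodule.eq_top_of_finrank_eq hfr
  have hv : v ∈ LinearMap.range Φ := by rw [htop]; trivial
  obtain ⟨a, ha⟩ := hv
  exact ⟨a, ha⟩

theorem commute_aeval {g : Module.End F V} (hg : Commute g f) (b : F[X]) (v : V) :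
    g (aeval f b v) = aeval f b (g v) := by
  have h1 : Commute g (aeval f b) := by
    induction b using Polynomial.induction_on' with
    | add a b ha hb =>
      rw [map_add]
      exact ha.add_right hb
    | monomial k t =>
      rw [aeval_monomial]
      exact Commute.mul_right (show Commute g (algebraMap F (Module.End F V) t) from
        (Algebra.commutes t g).symm) (hg.pow_right k)
  exact congrArg (fun x : Module.End F V => x v) h1.eq

theorem cyc_of_irr (hirr : Irreducible P) {w : V} (hw0 : w ≠ 0)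
    (hPw : aeval f P w = 0) (hcyc : ∀ v, ∃ a : F[X], aeval f a w = v) {G : Type*} [Group G]
    [Finite G] (r : G →* Module.End F V) (hr : Function.Injective r)
    (hcomm : ∀ g, Commute (r g) f) : IsCyclic G := by
  have : Fact (Irreducible P) := ⟨hirr⟩
  choose a ha using fun g => hcyc (r g w)
  have hmk : ∀ {x y : F[X]}, aeval f x w = aeval f y w →
      AdjoinRoot.mk P x = AdjoinRoot.mk P y := by
    intro x y h
    rw [AdjoinRoot.mk_eq_mk]
    refine dvd_of_aeval hirr hw0 hPw ?_
    rw [map_sub, LinearMap.sub_apply, h, sub_self]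
  let φ : G →* AdjoinRoot P :=
    { toFun := fun g => AdjoinRoot.mk P (a g)
      map_one' := by
        rw [← map_one (AdjoinRoot.mk P)]
        refine hmk ?_
        rw [ha, map_one, map_one]
      map_mul' := fun g h => by
        rw [← map_mul]
        refine hmk ?_
        rw [ha, map_mul, map_mul, Module.End.mul_apply, Module.End.mul_apply, ha,
          ← commute_aeval (hcomm h) (a g) w, ha, ← Module.End.mul_apply,
          ← Module.End.mul_apply]
        have hgh : r h (r g w) = aeval f (a g) (r h w) := by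
          rw [← ha g, commute_aeval (hcomm h)]
        have hgh2 : r g (r h w) = aeval f (a h) (r g w) := by
          rw [← ha h, commute_aeval (hcomm g)]
        change r g (r h w) = r h (r g w)
        rw [hgh, hgh2, ← ha g, ← ha h, ← Module.End.mul_apply, ← Module.End.mul_apply,
          ← map_mul, ← map_mul, mul_comm] }
  refine isCyclic_of_injective_ringHom φ ?_
  intro g h hgh
  have h1 : AdjoinRoot.mk P (a g) = AdjoinRoot.mk P (a h) := hgh
  rw [AdjoinRoot.mk_eq_mk] at h1
  obtain ⟨t, ht⟩ := h1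
  have h2 : r g w = r h w := by
    rw [← ha, ← ha, ← sub_eq_zero, ← LinearMap.sub_apply, ← map_sub, ht, mul_comm, map_mul,
      Module.End.mul_apply, hPw, map_zero]
  apply hr
  refine LinearMap.ext fun v => ?_
  obtain ⟨b, rfl⟩ := hcyc v
  rw [commute_aeval (hcomm g), commute_aeval (hcomm h), h2]

end cyc

section trans

variable {F : Type*} [Field F] {V : Type*} [AddCommGroup V] [Module F V] [Finite V]
  {T : Type*} [Group T] [Finite T] {X : Type*} [Group X] {π : X →* T} {ρ : X →* Equiv.Perm V}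

omit [Finite V] [Finite T] in
/-- Part (b), from automorphisms to maps. -/
theorem bps_of_aut [Nontrivial V] {p : ℕ} (hπ : Function.Surjective π)
    (hρ : Function.Injective ρ) (hρlin : ∀ s : X, Semi (1 : F ≃+* F) (ρ s))
    {y z : Equiv.Perm V} {c d : MulAut T} (hyc : Ind π ρ y c) (hzd : Ind π ρ z d)
    (h : BPair p (Inn T) c d) : BPs F p ρ.range y z := by
  obtain ⟨_, ⟨t, rfl⟩, h2⟩ := h
  obtain ⟨s, rfl⟩ := hπ t
  refine ⟨ρ s, ⟨s, rfl⟩, fun k hk => h2 k ?_⟩
  have e1 : (ρ s)⁻¹ = ρ s⁻¹ := (map_inv ρ s).symm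
  have e2 : (MulAut.conj (π s))⁻¹ = MulAut.conj (π s⁻¹) := by rw [map_inv π, map_inv]
  have hz' : Ind π ρ (ρ s * z * (ρ s)⁻¹) (MulAut.conj (π s) * d * (MulAut.conj (π s))⁻¹) := by
    rw [e1, e2]
    exact ((Ind.conj π ρ s).mul hzd).mul (Ind.conj π ρ s⁻¹)
  obtain ⟨a, ha⟩ := exists_scal hk
  have h3 := (hyc.mul hz').pow (p ^ k)
  rw [ha] at h3
  exact Ind.unique hπ hρ h3 (ind_scal hρlin a)

end trans

section SU

variable {F : Type} [Field F] [Fintype F] {n q p : ℕ} {c d : Equiv.Perm (Fin n → F)}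

/-- The linear map of an element of `SU`. -/
noncomputable def lin (n : ℕ) (F : Type) [Field F] (q : ℕ) :
    SU n F q →* Module.End F (Fin n → F) where
  toFun s :=
    { toFun := act s
      map_add' := act_add s
      map_smul' := fun a v => act_smul s a v }
  map_one' := LinearMap.ext fun v => act_one v
  map_mul' g h := LinearMap.ext fun v => act_mul g h v

omit [Fintype F] in
theorem lin_apply (s : SU n F q) (v : Fin n → F) : lin n F q s v = act s v := rfl

omit [Fintype F] in
theorem lin_injective : Function.Injective (lin n F q) := fun _ _ h =>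
  Cfsg.Agent.LieClassical.HermSiegel.ext_act fun v => congrArg (fun x : Module.End F _ => x v) h

theorem cyc_data (hF : Fintype.card F = q ^ 2) (hp : p.Prime) (hpF : (p : F) ≠ 0)
    (hn : n = orderOf ((q : ZMod p) ^ 2)) {f : Module.End F (Fin n → F)} (hfp : f ^ p = 1)
    (hf1 : f ≠ 1) : ∃ (P : F[X]) (w : Fin n → F), Irreducible P ∧ w ≠ 0 ∧ aeval f P w = 0 ∧
      ∀ v, ∃ a : F[X], aeval f a w = v := by
  obtain ⟨P, hirr, hd, w, hw0, hPw⟩ := exists_cyc_factor hp hfp hf1
  have hdeg := natDegree_cyc hF hp hpF hirr hd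
  exact ⟨P, w, hirr, hw0, hPw, cyclic_vector hirr hw0 hPw (by
    rw [hdeg, Module.finrank_fin_fun, hn])⟩

/-- **The `p`-subgroups of `SU_n(q)` are cyclic.** -/
theorem cyc_SU (hF : Fintype.card F = q ^ 2) (hp : p.Prime) (hpF : (p : F) ≠ 0)
    (hn : n = orderOf ((q : ZMod p) ^ 2)) {G : Type*} [Group G] [Finite G] (hG : IsPGroup p G)
    (r : G →* SU n F q) (hr : Function.Injective r) : IsCyclic G := by
  have hpf : Fact p.Prime := ⟨hp⟩
  by_cases htriv : Subsingleton G
  · exact isCyclic_of_subsingleton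
  have hnt : Nontrivial G := not_subsingleton_iff_nontrivial.1 htriv
  have hcn := hG.center_nontrivial
  have hcp : IsPGroup p (Subgroup.center G) := hG.to_subgroup _
  obtain ⟨k, hk⟩ := hcp.exists_card_eq
  have hk0 : k ≠ 0 := by
    rintro rfl
    rw [pow_zero] at hk
    have := (Nat.card_eq_one_iff_unique.1 hk).1
    exact not_subsingleton (Subgroup.center G) this
  obtain ⟨z, hz⟩ := exists_prime_orderOf_dvd_card' (G := Subgroup.center G) p (by
    rw [hk]; exact dvd_pow_self p hk0)
  have hzp : (z : G) ^ p = 1 := by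
    have := pow_orderOf_eq_one z
    rw [hz] at this
    simpa using congrArg Subtype.val this
  have hz1 : (z : G) ≠ 1 := by
    intro h
    have h1 : z = 1 := Subtype.ext h
    rw [h1, orderOf_one] at hz
    exact hp.one_lt.ne hz
  have hinj : Function.Injective ((lin n F q).comp r) := lin_injective.comp hr
  obtain ⟨P, w, hirr, hw0, hPw, hcyc⟩ := cyc_data hF hp hpF hn (f := (lin n F q).comp r z) (by
    rw [← map_pow, hzp, map_one]) (fun h => hz1 (hinj (by rw [h, map_one])))
  refine cyc_of_irr hirr hw0 hPw hcyc ((lin n F q).comp r) hinj fun g => ?_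
  have h1 : g * z = z * g := ((Subgroup.mem_center_iff.1 z.2) g)
  change (lin n F q).comp r g * (lin n F q).comp r z = (lin n F q).comp r z * (lin n F q).comp r g
  rw [← map_mul, ← map_mul, h1]

theorem finite_SU : Finite (SU n F q) :=
  Finite.of_injective _ (rho_injective (n := n) (F := F) (q := q))

theorem finite_PSU : Finite (PSU n F q) := by
  have := finite_SU (n := n) (F := F) (q := q)
  exact Finite.of_surjective _ (pr_surjective (n := n) (F := F) (q := q))

theorem psu_simple (hF : Fintype.card F = q ^ 2) (hn : 3 ≤ n) (h32 : ¬ (n = 3 ∧ q = 2)) :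
    IsSimpleGroup (PSU n F q) :=
  Cfsg.Agent.LieClassical.HermSimple.isSimpleGroup_of_perfect hF hn
    (Cfsg.Agent.LieClassical.HermPerfect.commutator_SU_eq_top hF hn h32)

theorem psu_na (hF : Fintype.card F = q ^ 2) (hn : 3 ≤ n) (h32 : ¬ (n = 3 ∧ q = 2)) :
    ¬ IsMulCommutative (PSU n F q) := by
  intro h
  have hs := psu_simple hF hn h32
  have h1 : commutator (PSU n F q) = ⊥ := by
    rw [commutator_eq_bot_iff_center_eq_top, Subgroup.eq_top_iff']
    intro x
    rw [Subgroup.mem_center_iff]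
    exact fun y => h.is_comm.comm y x
  have h2 : commutator (PSU n F q) = ⊤ := by
    have h3 := Cfsg.Agent.LieClassical.HermPerfect.commutator_SU_eq_top hF hn h32
    rw [commutator_def] at h3 ⊢
    have h4 := congrArg (Subgroup.map (pr n F q)) h3
    rw [Subgroup.map_commutator, Subgroup.map_top_of_surjective _ pr_surjective] at h4
    exact h4
  rw [h1] at h2
  exact bot_ne_top h2

theorem exists_rho (hF : Fintype.card F = q ^ 2) (hp : p.Prime) (hpq : ¬ p ∣ q + 1)
    (hc : SI q (1 : F ≃+* F) c) (hcp : c ^ p = 1) : ∃ s : SU n F q, rho n F q s = c := by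
  obtain ⟨f, hf, hfc⟩ := exists_end hc.semi
  have hfp : (f : Module.End F (Fin n → F)) ^ p = 1 := by
    refine LinearMap.ext fun v => ?_
    rw [pow_end hf, hcp]
    rfl
  set M := LinearMap.toMatrix' (f : (Fin n → F) →ₗ[F] (Fin n → F)) with hM
  have hMv : ∀ v, M.mulVec v = c v := fun v => by
    rw [hM, LinearMap.toMatrix'_mulVec]
    exact hf v
  have h1 := Cfsg.Agent.LieClassical.GUOrder.det_mul_frob_det hF M (fun u v => by
    rw [hMv, hMv, hc.herm]; rfl)
  have h2 : M.det ^ p = 1 := by
    rw [← Matrix.det_pow]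
    have h3 : M ^ p = 1 := by
      have h4 : M ^ p = LinearMap.toMatrix' ((f : Module.End F (Fin n → F)) ^ p) := by
        rw [hM]
        exact (map_pow (LinearMap.toMatrixAlgEquiv' (R := F) (n := Fin n)) _ p).symm
      rw [h4, hfp]
      exact LinearMap.toMatrix'_one
    rw [h3, Matrix.det_one]
  have h3 : M.det = 1 := by
    have h4 : orderOf M.det ∣ Nat.gcd p (q + 1) :=
      Nat.dvd_gcd (orderOf_dvd_of_pow_eq_one h2) (orderOf_dvd_of_pow_eq_one h1)
    rw [(Nat.Prime.coprime_iff_not_dvd hp).2 hpq, Nat.dvd_one, orderOf_eq_one_iff] at h4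
    exact h4
  refine Cfsg.Agent.H177.MeetPSU.exists_su ⟨⟨f, hf, ?_⟩, fun u v => ?_⟩
  · rw [← LinearMap.det_toMatrix']
    exact h3
  · rw [hc.herm]; rfl

/-- Linear elements in the case of cyclic Sylow `p`-subgroups. -/
theorem sps_full_AA (hAA : AAHyp.{0} p) (hRS : RSHyp.{0} p) (hF : Fintype.card F = q ^ 2)
    (hn3 : 3 ≤ n) (h32 : ¬ (n = 3 ∧ q = 2)) (hp : p.Prime) (hpF : (p : F) ≠ 0)
    (hn : n = orderOf ((q : ZMod p) ^ 2)) (hpq : ¬ p ∣ q + 1)
    (hc : SI q (1 : F ≃+* F) c) (hcp : c ^ p = 1) (hcn : ¬ IsScal F c)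
    (hd : SI q (1 : F ≃+* F) d) (hdp : d ^ p = 1) (hdn : ¬ IsScal F d) :
    SPs F p (rho n F q).range c d := by
  have hpf : Fact p.Prime := ⟨hp⟩
  have : Nonempty (Fin n) := ⟨⟨0, by omega⟩⟩
  have : Nontrivial (Fin n → F) := Function.nontrivial
  have := finite_SU (n := n) (F := F) (q := q)
  have := finite_PSU (n := n) (F := F) (q := q)
  have hs := psu_simple hF hn3 h32
  have hna := psu_na hF hn3 h32
  obtain ⟨s, rfl⟩ := exists_rho hF hp hpq hc hcp
  obtain ⟨t, rfl⟩ := exists_rho hF hp hpq hd hdp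
  have hord : ∀ s : SU n F q, rho n F q s ^ p = 1 → ¬ IsScal F (rho n F q s) →
      orderOf (pr n F q s) = p := by
    intro s h1 h2
    refine orderOf_eq_prime ?_ ?_
    · have h3 : s ^ p = 1 := rho_injective (by rw [map_pow, h1, map_one])
      rw [← map_pow, h3, map_one]
    · intro h3
      apply h2
      have h4 := Ind.conj (pr n F q) (rho n F q) s
      rw [h3, map_one] at h4
      exact uniqSU hF hn3 ⟨1, si_rho s⟩ h4
  obtain ⟨Q⟩ : Nonempty (Sylow p (SU n F q)) := inferInstance
  have hQ : IsCyclic (Q : Subgroup (SU n F q)) :=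
    cyc_SU hF hp hpF hn Q.2 (Q : Subgroup (SU n F q)).subtype Subtype.val_injective
  have hP : IsCyclic ((Q.mapSurjective (pr_surjective (n := n) (F := F) (q := q)) :
      Sylow p (PSU n F q)) : Subgroup (PSU n F q)) := by
    rw [Sylow.coe_mapSurjective]
    exact isCyclic_of_surjective _ ((pr n F q).subgroupMap_surjective (Q : Subgroup (SU n F q)))
  have h1 := spair_of_cyclic hAA hRS hna _ hP (hord s hcp hcn) (hord t hdp hdn)
  have h2 := h1.of_injective (MulAut.conj : PSU n F q →* MulAut (PSU n F q))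
    (conj_injective_of_simple hna)
  rw [← MonoidHom.range_eq_map] at h2
  exact ⟨apair_of_aut pr_surjective rho_injective (Ind.conj _ _ s) (Ind.conj _ _ t) h2.1,
    bps_of_aut pr_surjective rho_injective (fun s => (si_rho s).semi) (Ind.conj _ _ s)
      (Ind.conj _ _ t) ((spair_iff hp).1 h2).2⟩

end SU

end Cfsg.Agent.H43.SP
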