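import Cfsg.Agent.H43.SP.Full1
import Cfsg.Agent.H28.T5Ok

/-!
# S2274, row `PSU_n(q)`, cross characteristic, `n` = the order of `q ^ 2` modulo `p`:
a linear element against a field automorphism, part (a)
-/

set_option autoImplicit false

namespace Cfsg.Agent.H43.SP

open Cfsg Cfsg.Agent.LieClassical.HermBasic Cfsg.Agent.LieClassical.HermSiegel
open Cfsg.Agent.H533.T5 Cfsg.Agent.H106.MB Cfsg.Agent.H106.MT Cfsg.Agent.H132.S5
open Cfsg.Agent.H957.T5V Cfsg.Agent.H957.T5Tr Cfsg.Agent.H957.T5Conf Cfsg.Agent.H957.T5Pairs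
  Cfsg.Agent.H957.T5U
open Cfsg.Agent.LieClassical.SUBasic Cfsg.Agent.ClassicalGeometry.PSUAutCount
  Cfsg.Agent.ClassicalGeometry.UnitAutBasic
open Cfsg.Agent.H903.SylSemi (Ind scal scal_apply)
open Cfsg.Agent.H177.MeetPSU (rho rho_apply rho_injective)
open Cfsg.Agent.H967.CopMat (Fx mem_Fx card_Fx)
open Cfsg.Agent.ClassicalGeometry.HermOrtho
open scoped Matrix

variable {F : Type} [Field F] {n q q0 p : ℕ} {θ : F ≃+* F} {c d h : Equiv.Perm (Fin n → F)}
  {b : Fin n → (Fin n → F)}

/-- Coordinates over the fixed field. -/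
def io0 (b : Fin n → (Fin n → F)) (v : Fin n → Fx θ) : Fin n → F := iob b (fun i => (v i : F))

theorem io0_add (u v : Fin n → Fx θ) : io0 b (u + v) = io0 b u + io0 b v := by
  rw [io0, io0, io0, ← iob_add]
  rfl

theorem io0_smul (a : Fx θ) (v : Fin n → Fx θ) : io0 b (a • v) = (a : F) • io0 b v := by
  rw [io0, io0, ← iob_smul]
  rfl

theorem io0_inj (hb : ∀ i j, hermForm n F q (b i) (b j) = if i = j then 1 else 0) :
    Function.Injective (io0 (θ := θ) b) := by
  intro u v huv
  have h1 := iob_inj hb huv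
  funext i
  exact Subtype.ext (congrFun h1 i)

variable [Fintype F]

theorem herm_io0 (hF : Fintype.card F = q ^ 2)
    (hb : ∀ i j, hermForm n F q (b i) (b j) = if i = j then 1 else 0)
    (hpow : ∀ x : Fx θ, ((x ^ q0 : Fx θ) : F) = (x : F) ^ q) (u v : Fin n → Fx θ) :
    hermForm n F q (io0 b u) (io0 b v) = ((hermForm n (Fx θ) q0 u v : Fx θ) : F) := by
  rw [io0, io0, herm_iob hF hb]
  unfold hermForm
  rw [← Subfield.coe_subtype, map_sum]
  refine Finset.sum_congr rfl fun i _ => ?_
  rw [map_mul, Subfield.coe_subtype, hpow]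

omit [Fintype F] in
theorem iob_surj [Finite F] (hb : ∀ i j, hermForm n F q (b i) (b j) = if i = j then 1 else 0)
    (v : Fin n → F) : ∃ x, iob b x = v :=
  Finite.injective_iff_surjective.1 (iob_inj hb) v

omit [Fintype F] in
theorem semi_iob (hh : SI q θ h) (hhb : ∀ i, h (b i) = b i) (x : Fin n → F) :
    h (iob b x) = iob b (fun i => θ (x i)) := by
  have h1 : ∀ t : Finset (Fin n), h (∑ i ∈ t, x i • b i) = ∑ i ∈ t, θ (x i) • b i := by
    intro t
    induction t using Finset.induction_on with
    | empty => simp [hh.semi.zero]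
    | insert a t ha ih =>
      rw [Finset.sum_insert ha, Finset.sum_insert ha, hh.semi.add, ih, hh.semi.smul, hhb]
  exact h1 _

omit [Fintype F] in
theorem fix_io0 (hh : SI q θ h) (hhb : ∀ i, h (b i) = b i) (x : Fin n → Fx θ) :
    h (io0 b x) = io0 b x := by
  rw [io0, semi_iob hh hhb]
  congr 1
  funext i
  exact (x i).2

omit [Fintype F] in
theorem exists_io0 [Finite F] (hb : ∀ i j, hermForm n F q (b i) (b j) = if i = j then 1 else 0)
    (hh : SI q θ h) (hhb : ∀ i, h (b i) = b i) {v : Fin n → F} (hv : h v = v) :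
    ∃ x : Fin n → Fx θ, io0 b x = v := by
  obtain ⟨x, rfl⟩ := iob_surj hb v
  rw [semi_iob hh hhb] at hv
  have h1 := iob_inj hb hv
  exact ⟨fun i => ⟨x i, congrFun h1 i⟩, rfl⟩

/-- Elements of `SU_n(q₀)` extend. -/
theorem exists_ext0 [Fintype (Fx θ)] (hF : Fintype.card F = q ^ 2)
    (hb : ∀ i j, hermForm n F q (b i) (b j) = if i = j then 1 else 0)
    (hpow : ∀ x : Fx θ, ((x ^ q0 : Fx θ) : F) = (x : F) ^ q) (s0 : SU n (Fx θ) q0) :
    ∃ s : SU n F q, Res (io0 b) (rho n F q s) (rho n (Fx θ) q0 s0) := by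
  classical
  have hbs : ∀ i, io0 (θ := θ) b (Pi.single i 1) = b i := by
    intro i
    rw [io0, ← iob_single (b := b) i]
    congr 1
    funext j
    by_cases hj : j = i
    · subst hj; simp
    · simp [Pi.single_eq_of_ne hj]
  have h1 : ∀ i j, hermForm n F q (io0 b (act s0 (Pi.single i 1)))
      (io0 b (act s0 (Pi.single j 1))) = if i = j then 1 else 0 := by
    intro i j
    rw [herm_io0 hF hb hpow, herm_act, ← herm_io0 hF hb hpow, hbs, hbs, hb]
  obtain ⟨M, hM, hMb⟩ := exists_iso_ext hF b _ (linearIndependent_of_orthonormal hb)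
    (linearIndependent_of_orthonormal h1) (fun i j => by rw [hb, h1])
  have hsum : ∀ x : Fin n → Fx θ, M *ᵥ io0 b x = io0 b (act s0 x) := by
    intro x
    have h2 : x = ∑ i, x i • (Pi.single i 1 : Fin n → Fx θ) := by
      funext j
      simp [Finset.sum_apply, Pi.single_apply]
    have h3 : act s0 x = ∑ i, x i • act s0 (Pi.single i 1 : Fin n → Fx θ) := by
      conv_lhs => rw [h2]
      rw [act_sum]
      exact Finset.sum_congr rfl fun i _ => act_smul _ _ _
    have h4 : ∀ (f : Fin n → (Fin n → Fx θ)),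
        io0 b (∑ i, x i • f i) = ∑ i, (x i : F) • io0 b (f i) := by
      intro f
      have h5 : ∀ t : Finset (Fin n), io0 b (∑ i ∈ t, x i • f i) =
          ∑ i ∈ t, (x i : F) • io0 b (f i) := by
        intro t
        induction t using Finset.induction_on with
        | empty => simp [io0, iob]
        | insert a t ha ih =>
          rw [Finset.sum_insert ha, Finset.sum_insert ha, io0_add, io0_smul, ih]
      exact h5 _
    have h6 : io0 b x = ∑ i, (x i : F) • b i := rfl
    rw [h3, h4, h6, Matrix.mulVec_sum]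
    exact Finset.sum_congr rfl fun i _ => by rw [Matrix.mulVec_smul, hMb]
  -- the determinant
  have hdet : M.det = 1 := by
    rcases Nat.eq_zero_or_pos n with hn | hn
    · subst hn
      exact Matrix.det_isEmpty
    have : Nonempty (Fin n) := ⟨⟨0, hn⟩⟩
    let B : Module.Basis (Fin n) F (Fin n → F) :=
      basisOfLinearIndependentOfCardEqFinrank (linearIndependent_of_orthonormal hb) (by
        rw [Module.finrank_fin_fun, Fintype.card_fin])
    have hB : ∀ i, B i = b i := fun i => by simp [B]
    have h2 : LinearMap.toMatrix B B M.mulVecLin =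
        (((s0 : Matrix.SpecialLinearGroup (Fin n) (Fx θ)) : Matrix (Fin n) (Fin n) (Fx θ))).map
          (Fx θ).subtype := by
      ext i j
      rw [LinearMap.toMatrix_apply, hB, Matrix.mulVecLin_apply, hMb]
      have h3 : io0 b (act s0 (Pi.single j 1)) =
          ∑ i, ((act s0 (Pi.single j 1 : Fin n → Fx θ) i : Fx θ) : F) • B i := by
        rw [io0, iob]
        exact Finset.sum_congr rfl fun i _ => by rw [hB]
      rw [h3, Module.Basis.repr_sum_self, Matrix.map_apply]
      have h4 : act s0 (Pi.single j 1 : Fin n → Fx θ) i =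
          ((s0 : Matrix.SpecialLinearGroup (Fin n) (Fx θ)) :
            Matrix (Fin n) (Fin n) (Fx θ)) i j := by
        change (((s0 : Matrix.SpecialLinearGroup (Fin n) (Fx θ)) :
            Matrix (Fin n) (Fin n) (Fx θ)) *ᵥ (Pi.single j 1)) i = _
        rw [Matrix.mulVec_single_one]
        rfl
      rw [h4]
      rfl
    have h3 : (LinearMap.toMatrix B B M.mulVecLin).det = M.det := by
      rw [LinearMap.det_toMatrix, ← Matrix.toLin'_apply', LinearMap.det_toLin']
    rw [← h3, h2]
    have h4 := RingHom.map_det (Fx θ).subtype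
      ((s0 : Matrix.SpecialLinearGroup (Fin n) (Fx θ)) : Matrix (Fin n) (Fin n) (Fx θ))
    rw [RingHom.mapMatrix_apply] at h4
    rw [← h4]
    have h5 : ((s0 : Matrix.SpecialLinearGroup (Fin n) (Fx θ)) :
        Matrix (Fin n) (Fin n) (Fx θ)).det = 1 :=
      (s0 : Matrix.SpecialLinearGroup (Fin n) (Fx θ)).2
    rw [h5, map_one]
  exact ⟨mkSU M hdet hM, fun x => hsum x⟩

omit [Fintype F] in
theorem commute_of_io0 [Finite F]
    (hb : ∀ i j, hermForm n F q (b i) (b j) = if i = j then 1 else 0)
    (hh : SI q θ h) (hhb : ∀ i, h (b i) = b i) {s : SU n F q} {w : Equiv.Perm (Fin n → Fx θ)}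
    (hs : Res (io0 b) (rho n F q s) w) : Commute (rho n F q s) h := by
  have hbs : ∀ i, io0 (θ := θ) b (Pi.single i 1) = b i := by
    intro i
    rw [io0, ← iob_single (b := b) i]
    congr 1
    funext j
    by_cases hj : j = i
    · subst hj; simp
    · simp [Pi.single_eq_of_ne hj]
  ext1 v
  rw [Equiv.Perm.mul_apply, Equiv.Perm.mul_apply]
  obtain ⟨x, rfl⟩ := iob_surj hb v
  have h1 : ∀ x : Fin n → F, rho n F q s (iob b x) = ∑ i, x i • rho n F q s (b i) := by
    intro x
    rw [rho_apply, iob, act_sum]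
    exact Finset.sum_congr rfl fun i _ => by rw [act_smul, rho_apply]
  have h2 : ∀ i, h (rho n F q s (b i)) = rho n F q s (b i) := by
    intro i
    rw [← hbs i, hs, fix_io0 hh hhb]
  rw [semi_iob hh hhb, h1, h1]
  have h3 : ∀ t : Finset (Fin n), h (∑ i ∈ t, x i • rho n F q s (b i)) =
      ∑ i ∈ t, θ (x i) • rho n F q s (b i) := by
    intro t
    induction t using Finset.induction_on with
    | empty => simp [hh.semi.zero]
    | insert a t ha ih =>
      rw [Finset.sum_insert ha, Finset.sum_insert ha, hh.semi.add, ih, hh.semi.smul, h2]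
  exact (h3 _).symm

/-- The normal closure of a non-scalar element of `SU_n(q)` is not solvable. -/
theorem not_solvable_SU (hF : Fintype.card F = q ^ 2) (hn : 3 ≤ n) (h32 : ¬ (n = 3 ∧ q = 2))
    (s : SU n F q) (hs : ¬ IsScal F (rho n F q s)) :
    ¬ Group.IsSolvable ↥(Subgroup.closure {y : Equiv.Perm (Fin n → F) |
      ∃ r : SU n F q, y = rho n F q r * rho n F q s * (rho n F q r)⁻¹}) := by
  intro hsol
  have hsim := psu_simple hF hn h32
  have hna := psu_na hF hn h32
  have h0 : pr n F q s ≠ 1 := by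
    intro h3
    apply hs
    have h4 := Ind.conj (pr n F q) (rho n F q) s
    rw [h3, map_one] at h4
    exact uniqSU hF hn ⟨1, si_rho s⟩ h4
  have h1 : (Subgroup.closure {y : SU n F q | ∃ r : SU n F q, y = r * s * r⁻¹}).map (rho n F q) =
      Subgroup.closure {y : Equiv.Perm (Fin n → F) |
        ∃ r : SU n F q, y = rho n F q r * rho n F q s * (rho n F q r)⁻¹} := by
    rw [MonoidHom.map_closure]
    congr 1
    ext y
    constructor
    · rintro ⟨_, ⟨r, rfl⟩, rfl⟩
      exact ⟨r, by rw [map_mul, map_mul, map_inv]⟩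
    · rintro ⟨r, rfl⟩
      exact ⟨_, ⟨r, rfl⟩, by rw [map_mul, map_mul, map_inv]⟩
  have h2 : Group.IsSolvable
      ↥(Subgroup.closure {y : SU n F q | ∃ r : SU n F q, y = r * s * r⁻¹}) := by
    rw [← h1] at hsol
    exact Group.isSolvable_of_isSolvable_injective
      (f := ((Subgroup.closure {y : SU n F q | ∃ r : SU n F q, y = r * s * r⁻¹}).equivMapOfInjective
        _ rho_injective).toMonoidHom) (MulEquiv.injective _)
  have h3 : (Subgroup.closure {y : SU n F q | ∃ r : SU n F q, y = r * s * r⁻¹}).map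
      (pr n F q) = ⊤ := by
    have hN : ((Subgroup.closure {y : SU n F q | ∃ r : SU n F q, y = r * s * r⁻¹}).map
        (pr n F q)).Normal := by
      refine Subgroup.Normal.map ?_ _ pr_surjective
      constructor
      intro x hx g
      induction hx using Subgroup.closure_induction with
      | mem x hx =>
        obtain ⟨r, rfl⟩ := hx
        exact Subgroup.subset_closure ⟨g * r, by group⟩
      | one => simp
      | mul a b _ _ ha hb =>
        have : g * (a * b) * g⁻¹ = (g * a * g⁻¹) * (g * b * g⁻¹) := by group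
        rw [this]; exact mul_mem ha hb
      | inv a _ ha =>
        have : g * a⁻¹ * g⁻¹ = (g * a * g⁻¹)⁻¹ := by group
        rw [this]; exact inv_mem ha
    rcases hN.eq_bot_or_eq_top with h | h
    · exfalso
      apply h0
      have : pr n F q s ∈ ((Subgroup.closure {y : SU n F q | ∃ r : SU n F q, y = r * s * r⁻¹}).map
          (pr n F q)) := ⟨s, Subgroup.subset_closure ⟨1, by group⟩, rfl⟩
      rwa [h, Subgroup.mem_bot] at this
    · exact h
  have h4 : Group.IsSolvable (PSU n F q) := by
    have h5 : Group.IsSolvable ↥((Subgroup.closure {y : SU n F q |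
        ∃ r : SU n F q, y = r * s * r⁻¹}).map (pr n F q)) :=
      Group.isSolvable_of_surjective (f := (pr n F q).subgroupMap _)
        ((pr n F q).subgroupMap_surjective _)
    rw [h3] at h5
    exact Group.isSolvable_of_surjective (f := (Subgroup.topEquiv (G := PSU n F q)).toMonoidHom)
      (MulEquiv.surjective _)
  exact hna ⟨⟨IsSimpleGroup.comm_iff_isSolvable.2 h4⟩⟩

end Cfsg.Agent.H43.SP
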