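import Cfsg.Agent.H43.SP.Full2

/-!
# S2274, row `PSU_n(q)`, cross characteristic, `n` = the order of `q ^ 2` modulo `p`:
a linear element against a field automorphism
-/

set_option autoImplicit false

namespace Cfsg.Agent.H43.SP

open Cfsg Cfsg.Agent.LieClassical.HermBasic Cfsg.Agent.LieClassical.HermSiegel
open Cfsg.Agent.H533.T5 Cfsg.Agent.H106.MB Cfsg.Agent.H106.MT Cfsg.Agent.H132.S5
open Cfsg.Agent.H957.T5V Cfsg.Agent.H957.T5Tr Cfsg.Agent.H957.T5Conf Cfsg.Agent.H957.T5Pairs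
  Cfsg.Agent.H957.T5U
open Cfsg.Agent.LieClassical.SUBasic Cfsg.Agent.ClassicalGeometry.PSUAutCount
  Cfsg.Agent.ClassicalGeometry.UnitAutBasic
open Cfsg.Agent.H903.SylSemi (Ind scal scal_apply)
open Cfsg.Agent.H177.MeetPSU (rho rho_apply rho_injective yy yy_apply ind_yy)
open Cfsg.Agent.H967.CopMat (Fx mem_Fx card_Fx)
open Cfsg.Agent.ClassicalGeometry.HermOrtho

theorem solvable_of_res {S V : Type*} {ι : S → V} (hι : Function.Injective ι)
    {N : Subgroup (Equiv.Perm V)} {N0 : Subgroup (Equiv.Perm S)}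
    (hN : ∀ w0 ∈ N0, ∃ w ∈ N, Res ι w w0) (h : Group.IsSolvable N) : Group.IsSolvable N0 := by
  let M : Subgroup (Equiv.Perm V) :=
    { carrier := {w | ∃ w0, Res ι w w0}
      mul_mem' := by
        rintro a b ⟨a0, ha⟩ ⟨b0, hb⟩
        exact ⟨a0 * b0, ha.mul hb⟩
      one_mem' := ⟨1, Res.one⟩
      inv_mem' := by
        rintro a ⟨a0, ha⟩
        exact ⟨a0⁻¹, ha.inv⟩ }
  have huni : ∀ {w : Equiv.Perm V} {a b : Equiv.Perm S}, Res ι w a → Res ι w b → a = b := by
    intro w a b ha hb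
    ext v
    apply hι
    rw [← ha, ← hb]
  let φ : M →* Equiv.Perm S :=
    { toFun := fun w => Classical.choose w.2
      map_one' := huni (Classical.choose_spec (1 : M).2) Res.one
      map_mul' := fun a b => huni (Classical.choose_spec (a * b).2)
        ((Classical.choose_spec a.2).mul (Classical.choose_spec b.2)) }
  have hφ : ∀ {w : Equiv.Perm V} {w0 : Equiv.Perm S} (hw : Res ι w w0),
      φ ⟨w, w0, hw⟩ = w0 := fun {w w0} hw =>
    huni (Classical.choose_spec (⟨w0, hw⟩ : ∃ w0, Res ι w w0)) hw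
  have h1 : N0 ≤ (N.subgroupOf M).map φ := by
    intro w0 hw0
    obtain ⟨w, hw, hww⟩ := hN w0 hw0
    exact ⟨⟨w, w0, hww⟩, hw, hφ hww⟩
  refine isSolvable_of_le h1 ?_
  have h2 : Group.IsSolvable (N.subgroupOf M) :=
    Group.isSolvable_of_isSolvable_injective
      (f := ((M.subtype.comp (N.subgroupOf M).subtype).codRestrict N (fun x => x.2)))
      (fun a b hab => Subtype.ext (Subtype.ext (congrArg (fun x : N => (x : Equiv.Perm V)) hab)))
  exact Group.isSolvable_of_surjective (f := φ.subgroupMap (N.subgroupOf M))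
    (φ.subgroupMap_surjective _)

theorem not_scal_semi {F V : Type*} [Field F] [AddCommGroup V] [Module F V] [Nontrivial V]
    {p : ℕ} (hp : p.Prime) {θ : F ≃+* F} (hθ : orderOf θ = p) {d : Equiv.Perm V}
    (hd : Semi θ d) : ¬ IsScal F d := by
  rintro ⟨t, ht⟩
  obtain ⟨v, hv⟩ := exists_ne (0 : V)
  have ht0 : t • v ≠ 0 := by
    rw [← ht]
    intro h
    apply hv
    apply d.injective
    rw [h, hd.zero]
  have hθ1 : θ = 1 := by
    ext a
    have h1 := hd.smul a v
    rw [ht, ht, smul_comm] at h1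
    have h2 : (a - θ a) • (t • v) = 0 := by rw [sub_smul, h1, sub_self]
    exact (sub_eq_zero.1 ((smul_eq_zero.1 h2).resolve_right ht0)).symm
  rw [hθ1, orderOf_one] at hθ
  exact hp.one_lt.ne hθ

variable {F : Type} [Field F] [Fintype F] {n q p : ℕ} {θ : F ≃+* F}
  {c d z : Equiv.Perm (Fin n → F)}

/-- A linear element and a field automorphism which commute. -/
theorem apair_comm (hRS : RSHyp.{0} p) (hF : Fintype.card F = q ^ 2) (hn3 : 3 ≤ n)
    (h32 : ¬ (n = 3 ∧ q = 2 ^ p)) (hp : p.Prime) (hp2 : p ≠ 2) (hpq : ¬ p ∣ q + 1)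
    (hθ : orderOf θ = p) (hz : SI q (1 : F ≃+* F) z) (hzp : z ^ p = 1) (hzn : ¬ IsScal F z)
    (hd : SI q θ d) (hdp : d ^ p = 1) (hcomm : Commute z d) :
    APair (rho n F q).range z d := by
  classical
  obtain ⟨h, hh⟩ : ∃ h, h = z⁻¹ * d := ⟨_, rfl⟩
  have hsi : SI q θ h := by
    rw [hh]
    have := hz.inv.mul hd
    rwa [inv_one, one_mul] at this
  have hhp : h ^ p = 1 := by
    rw [hh, (hcomm.inv_left).mul_pow, inv_pow, hzp, hdp, inv_one, one_mul]
  have hzh : Commute z h := by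
    rw [hh]
    exact (Commute.refl z).inv_right.mul_right hcomm
  obtain ⟨b, hb, hhb⟩ := exists_onb_fix hF hp hp2 hθ hsi hhp n le_rfl
  obtain ⟨q0, hq, h0⟩ := exists_q0 hF hp hp2 hθ
  have : Fintype (Fx θ) := Fintype.ofFinite _
  rw [Nat.card_eq_fintype_card] at h0
  have hpow := pow_q_eq (hp.odd_of_ne_two hp2) hq h0
  have h320 : ¬ (n = 3 ∧ q0 = 2) := by
    rintro ⟨h1, h2⟩
    exact h32 ⟨h1, by rw [hq, h2]⟩
  have hpq0 : ¬ p ∣ q0 + 1 := by
    intro h1
    apply hpq
    rw [hq]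
    have h2 := (hp.odd_of_ne_two hp2).nat_add_dvd_pow_add_pow q0 1
    rw [one_pow] at h2
    exact h1.trans h2
  have hinj : Function.Injective (io0 (θ := θ) b) := io0_inj hb
  -- the restriction of `z`
  obtain ⟨z0, hz0⟩ := exists_res (x := z) hinj (fun v => by
    obtain ⟨x, hx⟩ := exists_io0 hb hsi hhb (v := z (io0 b v)) (by
      have h1 : h (z (io0 b v)) = z (h (io0 b v)) := by
        rw [← Equiv.Perm.mul_apply, ← Equiv.Perm.mul_apply, hzh.eq]
      rw [h1, fix_io0 hsi hhb])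
    exact ⟨x, hx.symm⟩)
  have hz0s : SI q0 (1 : Fx θ ≃+* Fx θ) z0 := by
    refine ⟨⟨fun u v => hinj ?_, fun a v => hinj ?_⟩, fun u v => ?_⟩
    · rw [← hz0, io0_add, hz.semi.add, hz0, hz0, io0_add]
    · rw [← hz0, io0_smul, hz.semi.smul, hz0]
      exact (io0_smul a (z0 v)).symm
    · apply Subtype.ext
      rw [← herm_io0 hF hb hpow, ← hz0, ← hz0, hz.herm]
      exact herm_io0 hF hb hpow u v
  have hz0p : z0 ^ p = 1 := by
    ext1 v
    apply hinj
    rw [← hz0.pow p, hzp]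
    rfl
  have hz0n : ¬ IsScal (Fx θ) z0 := by
    rintro ⟨t, ht⟩
    apply hzn
    refine ⟨t, fun v => ?_⟩
    obtain ⟨x, rfl⟩ := iob_surj hb v
    have hbs : ∀ i, io0 (θ := θ) b (Pi.single i 1) = b i := by
      intro i
      rw [io0, ← iob_single (b := b) i]
      congr 1
      funext j
      by_cases hj : j = i
      · subst hj; simp
      · simp [Pi.single_eq_of_ne hj]
    have h1 : ∀ i, z (b i) = (t : F) • b i := by
      intro i
      rw [← hbs i, hz0, ht, io0_smul]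
    have h2 : ∀ s : Finset (Fin n), z (∑ i ∈ s, x i • b i) = (t : F) • ∑ i ∈ s, x i • b i := by
      intro s
      induction s using Finset.induction_on with
      | empty => simp [hz.semi.zero]
      | insert a s ha ih =>
        rw [Finset.sum_insert ha, hz.semi.add, ih, hz.semi.smul, h1, smul_add, smul_comm]
        rfl
    exact h2 _
  obtain ⟨s0, hs0⟩ := exists_rho h0 hp hpq0 hz0s hz0p
  -- the subgroup `R`
  let R : Subgroup (Equiv.Perm (Fin n → F)) := (rho n F q).range ⊓ Subgroup.centralizer {h}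
  have hmemR : ∀ w, w ∈ R ↔ w ∈ (rho n F q).range ∧ Commute w h := by
    intro w
    rw [Subgroup.mem_inf, Subgroup.mem_centralizer_singleton_iff]
    exact and_congr_right fun _ => ⟨fun h => h, fun h => h⟩
  have hzR : z ∈ R := by
    rw [hmemR]
    obtain ⟨s, hs⟩ := exists_rho hF hp hpq hz hzp
    exact ⟨⟨s, hs⟩, hzh⟩
  have hz1 : z ≠ 1 := by
    rintro rfl
    exact hzn ⟨1, fun v => by rw [one_smul]; rfl⟩
  refine APair.of_aligned (R := R) hRS inf_le_left (orderOf_eq_prime_iff (hp := ⟨hp⟩) |>.2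
    ⟨hzp, hz1⟩) (fun r hr => mul_mem (mul_mem hzR hr) (inv_mem hzR)) (s := 1) (one_mem _) 1 hzh
    (fun r hr => ((hmemR r).1 hr).2) (by rw [hh]; group) ?_
  intro hsol
  refine not_solvable_SU h0 hn3 h320 s0 (by rw [hs0]; exact hz0n)
    (solvable_of_res hinj ?_ hsol)
  intro w0 hw0
  induction hw0 using Subgroup.closure_induction with
  | mem x hx =>
    obtain ⟨r, rfl⟩ := hx
    obtain ⟨s, hs⟩ := exists_ext0 hF hb hpow r
    refine ⟨rho n F q s * z * (rho n F q s)⁻¹, Subgroup.subset_closure ⟨rho n F q s, ?_, rfl⟩, ?_⟩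
    · rw [hmemR]
      exact ⟨⟨s, rfl⟩, commute_of_io0 hb hsi hhb hs⟩
    · rw [hs0]
      exact (hs.mul hz0).mul hs.inv
  | one => exact ⟨1, one_mem _, Res.one⟩
  | mul a b _ _ ha hb =>
    obtain ⟨x, hx, hxa⟩ := ha
    obtain ⟨y, hy, hyb⟩ := hb
    exact ⟨x * y, mul_mem hx hy, hxa.mul hyb⟩
  | inv a _ ha =>
    obtain ⟨x, hx, hxa⟩ := ha
    exact ⟨x⁻¹, inv_mem hx, hxa.inv⟩

theorem conj_mem_range (hF : Fintype.card F = q ^ 2) (hd : SI q θ d) {w : Equiv.Perm (Fin n → F)}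
    (hw : w ∈ (rho n F q).range) : d * w * d⁻¹ ∈ (rho n F q).range := by
  obtain ⟨s, rfl⟩ := hw
  obtain ⟨A, rfl⟩ := exists_yy hF hd
  obtain ⟨s', hs', -⟩ := ind_yy A θ s
  exact ⟨s', hs'⟩

/-- A conjugate of a linear element commutes with a field automorphism, if the Sylow `p`-subgroups
are cyclic. -/
theorem exists_commute (hF : Fintype.card F = q ^ 2) (hn3 : 3 ≤ n) (hp : p.Prime)
    (hpF : (p : F) ≠ 0) (hn : n = orderOf ((q : ZMod p) ^ 2))
    (hθ : orderOf θ = p) {s : SU n F q} (hs : orderOf s = p)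
    (hd : SI q θ d) (hdp : d ^ p = 1) :
    ∃ t : SU n F q, Commute (rho n F q t * rho n F q s * (rho n F q t)⁻¹) d := by
  have hpf : Fact p.Prime := ⟨hp⟩
  have : Nonempty (Fin n) := ⟨⟨0, by omega⟩⟩
  have : Nontrivial (Fin n → F) := Function.nontrivial
  have := finite_SU (n := n) (F := F) (q := q)
  obtain ⟨S, hS⟩ : ∃ S, S = (rho n F q).range := ⟨_, rfl⟩
  have hdS : d ∈ Subgroup.normalizer (S : Set (Equiv.Perm (Fin n → F))) := by
    rw [Subgroup.mem_normalizer_iff, hS]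
    intro w
    refine ⟨fun hw => conj_mem_range hF hd hw, fun hw => ?_⟩
    have h1 := conj_mem_range hF hd.inv hw
    have h2 : d⁻¹ * (d * w * d⁻¹) * d⁻¹⁻¹ = w := by group
    rwa [h2] at h1
  let δ : MulAut S := S.normalizerMonoidHom ⟨d, hdS⟩
  have hδ : ∀ x : S, ((δ x : S) : Equiv.Perm (Fin n → F)) = d * x * d⁻¹ := fun x => rfl
  have hδp : orderOf δ = p := by
    refine orderOf_eq_prime ?_ ?_
    · change (S.normalizerMonoidHom ⟨d, hdS⟩) ^ p = 1
      rw [← map_pow]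
      have h1 : (⟨d, hdS⟩ : Subgroup.normalizer (S : Set (Equiv.Perm (Fin n → F)))) ^ p = 1 :=
        Subtype.ext hdp
      rw [h1, map_one]
    · intro h1
      refine not_scal_semi hp hθ hd.semi (uniqSU hF hn3 ⟨θ, hd⟩ ?_)
      intro s
      refine ⟨s, ?_, rfl⟩
      have h2 := hδ ⟨rho n F q s, by rw [hS]; exact ⟨s, rfl⟩⟩
      rw [h1] at h2
      exact h2
  have hom : ∀ E : Subgroup S, IsPGroup p E → (∀ e ∈ E, δ e ∈ E) → ∀ e ∈ E, e ^ p = 1 →
      δ e = e := by
    intro E hE hδE e he hep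
    let e1 : S ≃* (rho n F q).range := MulEquiv.subgroupCongr hS
    let e2 : (rho n F q).range ≃* SU n F q := (MonoidHom.ofInjective (rho_injective (n := n)
      (F := F) (q := q))).symm
    let r : E →* SU n F q := ((e1.trans e2).toMonoidHom).comp E.subtype
    have hr : Function.Injective r := fun a b hab =>
      E.subtype_injective ((e1.trans e2).injective hab)
    have hEc := cyc_SU hF hp hpF hn hE r hr
    have hE' : IsCyclic ↥(E.map S.subtype) :=
      isCyclic_of_surjective _ (S.subtype.subgroupMap_surjective E)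
    have h1 := Cfsg.Agent.H28.T5Abs.omega_of_cyclic hp (E := E.map S.subtype) hE' (c := d) hdp
      (by
        rintro _ ⟨x, hx, rfl⟩
        exact ⟨δ x, hδE x hx, rfl⟩) (e := (e : Equiv.Perm (Fin n → F))) ⟨e, he, rfl⟩
      (by
        have := congrArg Subtype.val hep
        simpa using this)
    apply Subtype.ext
    rw [hδ, h1, mul_inv_cancel_right]
  have hso : orderOf (⟨rho n F q s, by rw [hS]; exact ⟨s, rfl⟩⟩ : S) = p := by
    rw [Subgroup.orderOf_mk, orderOf_injective _ rho_injective, hs]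
  obtain ⟨⟨t, ht⟩, h1⟩ := Cfsg.Agent.H28.T5Mid.exists_fix δ hδp hom hso
  have ht' := ht
  rw [hS] at ht'
  obtain ⟨t', rfl⟩ := ht'
  refine ⟨t', ?_⟩
  have h2 := congrArg (fun x : S => (x : Equiv.Perm (Fin n → F))) h1
  simp only [hδ] at h2
  have h3 : d * (rho n F q t' * rho n F q s * (rho n F q t')⁻¹) * d⁻¹ =
      rho n F q t' * rho n F q s * (rho n F q t')⁻¹ := h2
  exact (mul_inv_eq_iff_eq_mul.1 h3).symm

/-- A linear element against a field automorphism, part (a). -/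
theorem apair_full_AC (hRS : RSHyp.{0} p) (hF : Fintype.card F = q ^ 2) (hn3 : 3 ≤ n)
    (h32 : ¬ (n = 3 ∧ q = 2 ^ p)) (hp : p.Prime) (hp2 : p ≠ 2) (hpF : (p : F) ≠ 0)
    (hn : n = orderOf ((q : ZMod p) ^ 2)) (hpq : ¬ p ∣ q + 1)
    (hθ : orderOf θ = p) (hc : SI q (1 : F ≃+* F) c) (hcp : c ^ p = 1) (hcn : ¬ IsScal F c)
    (hd : SI q θ d) (hdp : d ^ p = 1) : APair (rho n F q).range c d := by
  have hpf : Fact p.Prime := ⟨hp⟩
  obtain ⟨s, rfl⟩ := exists_rho hF hp hpq hc hcp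
  have hs : orderOf s = p := by
    refine orderOf_eq_prime (rho_injective (by rw [map_pow, hcp, map_one])) ?_
    rintro rfl
    apply hcn
    rw [map_one]
    exact ⟨1, fun v => by rw [one_smul]; rfl⟩
  obtain ⟨t, ht⟩ := exists_commute hF hn3 hp hpF hn hθ hs hd hdp
  refine APair.conj_left (s := rho n F q t) ⟨t, rfl⟩ ?_
  refine apair_comm hRS hF hn3 h32 hp hp2 hpq hθ (hc.conj t) ?_ ?_ hd hdp ht
  · rw [conj_pow, hcp, mul_one, mul_inv_cancel]
  · intro h1
    apply hcn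
    have h2 := isScal_conj ((si_rho t).semi.inv) h1
    have h3 : (rho n F q t)⁻¹ * (rho n F q t * rho n F q s * (rho n F q t)⁻¹) *
        (rho n F q t)⁻¹⁻¹ = rho n F q s := by group
    rwa [h3] at h2

end Cfsg.Agent.H43.SP
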