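import Cfsg.Agent.H43.SP.Tr
import Cfsg.Agent.H897.MeetPSL
import Cfsg.Prelude.Def_Classical

/-!
# S2274: the natural modules of `PSL` and `PSU`

`sps_SL` : the strong row of `PSL_m(K)` and pairs of semilinear maps of an `m`-dimensional space;
`sps_SU` : the strong row of `PSU_m(q)` and pairs of semilinear isometries.
-/

set_option autoImplicit false

namespace Cfsg.Agent.H43.SP

open Cfsg Cfsg.Agent.H533.T5 Cfsg.Agent.H106.MT Cfsg.Agent.H132.S5
open Cfsg.Agent.H957.T5V Cfsg.Agent.H957.T5Tr Cfsg.Agent.H957.T5Pairs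
open Cfsg.Agent.H903.SylSemi (Ind scal scal_apply)
open Cfsg.Agent.H957.T5U (Res SI)

section SL

variable (K : Type*) [Field K] (X : Type*) [AddCommGroup X] [Module K X]

/-- The maps of determinant one. -/
noncomputable def SLg : Subgroup (Equiv.Perm X) :=
  (MonoidHom.ker (LinearEquiv.det : (X ≃ₗ[K] X) →* Kˣ)).map toA

variable {K X}

theorem mem_SLg {w : Equiv.Perm X} :
    w ∈ SLg K X ↔ ∃ g : X ≃ₗ[K] X, LinearEquiv.det g = 1 ∧ toA g = w := Iff.rfl

theorem semi_of_SLg {w : Equiv.Perm X} (h : w ∈ SLg K X) : Semi (1 : K ≃+* K) w := by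
  obtain ⟨g, -, rfl⟩ := h
  exact semi_toA g

end SL

section PSL

open Matrix Cfsg.Agent.H199.PslAut Cfsg.Agent.ClassicalGeometry.AutPSL.Root
  Cfsg.Agent.ClassicalGeometry.AutPSL.Auto
open Cfsg.Agent.H897.MeetPSL (exists_smap ind_smap smap smap_apply)

variable {K : Type} [Field K] [Finite K] {m p : ℕ}

omit [Finite K] in
theorem semi_rhoSL (s : Matrix.SpecialLinearGroup (Fin m) K) :
    Semi (1 : K ≃+* K) (Cfsg.Agent.H897.MeetPSL.rho m K s) := by
  refine ⟨fun u v => ?_, fun b v => ?_⟩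
  · rw [H897.MeetPSL.rho_apply, H897.MeetPSL.rho_apply, H897.MeetPSL.rho_apply, mulVec_add]
  · rw [H897.MeetPSL.rho_apply, H897.MeetPSL.rho_apply, mulVec_smul]
    rfl

omit [Finite K] in
theorem uniqSL (hm : 2 ≤ m) {y : Equiv.Perm (Fin m → K)} (hy : y ∈ Sem K (Fin m → K))
    (h : Ind (pr : Matrix.SpecialLinearGroup (Fin m) K →*
      Matrix.ProjectiveSpecialLinearGroup (Fin m) K) (Cfsg.Agent.H897.MeetPSL.rho m K) y 1) :
    IsScal K y := by
  obtain ⟨θ, hθ⟩ := hy
  obtain ⟨A, rfl⟩ := exists_smap (show Cfsg.Agent.H903.SylSemi.Semi K y θ from ⟨hθ.add, hθ.smul⟩)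
  have h1 : Psi m K A * phi m K θ = 1 :=
    Ind.unique pr_surjective Cfsg.Agent.H897.MeetPSL.rho_injective (ind_smap A θ) h
  obtain ⟨⟨u, rfl⟩, h2⟩ := Psi_phi_eq hm (g := A) (σ := θ) (τ := 1) (by rw [h1, map_one])
  refine ⟨u, fun v => ?_⟩
  rw [smap_apply, h2, Cfsg.Agent.H199.PslAut.coe_scal]
  change (scalar (Fin m) (u : K)) *ᵥ v = (u : K) • v
  rw [Matrix.scalar_apply, Matrix.diagonal_const_mulVec]

/-- Pairs of semilinear maps of `K ^ m`. -/
theorem sps_SL_fin (hm : 2 ≤ m) (hp : p.Prime)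
    (hrow : SRow p (Matrix.ProjectiveSpecialLinearGroup (Fin m) K))
    {σ τ : K ≃+* K} {y z : Equiv.Perm (Fin m → K)} (hy : Semi σ y) (hz : Semi τ z)
    (hyp : IsScal K (y ^ p)) (hyn : ¬ IsScal K y) (hzp : IsScal K (z ^ p))
    (hzn : ¬ IsScal K z) : SPs K p (Cfsg.Agent.H897.MeetPSL.rho m K).range y z := by
  have : Nonempty (Fin m) := ⟨⟨0, by omega⟩⟩
  have : Nontrivial (Fin m → K) := Function.nontrivial
  have : Finite (Matrix.SpecialLinearGroup (Fin m) K) :=
    Finite.of_injective (fun s => (s : Matrix (Fin m) (Fin m) K)) Subtype.val_injective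
  have : Finite (Matrix.ProjectiveSpecialLinearGroup (Fin m) K) :=
    Finite.of_surjective (pr : Matrix.SpecialLinearGroup (Fin m) K →* _) pr_surjective
  refine core_of_srow (F := K) hp (π := (pr : Matrix.SpecialLinearGroup (Fin m) K →*
      Matrix.ProjectiveSpecialLinearGroup (Fin m) K)) pr_surjective
    Cfsg.Agent.H897.MeetPSL.rho_injective semi_rhoSL (W := Sem K (Fin m → K)) ?_
    (fun y hy h => uniqSL hm hy h) hrow ⟨σ, hy⟩ ⟨τ, hz⟩ hyp hyn hzp hzn
  rintro y ⟨θ, hθ⟩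
  obtain ⟨A, rfl⟩ := exists_smap (show Cfsg.Agent.H903.SylSemi.Semi K y θ from ⟨hθ.add, hθ.smul⟩)
  exact ⟨_, ind_smap A θ⟩

variable {X : Type*} [AddCommGroup X] [Module K X]

/-- **Pairs of semilinear maps of an `m`-dimensional space.** -/
theorem sps_SL (hm : 2 ≤ m) (hX : Module.finrank K X = m) (hp : p.Prime)
    (hrow : SRow p (Matrix.ProjectiveSpecialLinearGroup (Fin m) K))
    {σ τ : K ≃+* K} {y z : Equiv.Perm X} (hy : Semi σ y) (hz : Semi τ z)
    (hyp : IsScal K (y ^ p)) (hyn : ¬ IsScal K y) (hzp : IsScal K (z ^ p))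
    (hzn : ¬ IsScal K z) : SPs K p (SLg K X) y z := by
  have : FiniteDimensional K X := Module.finite_of_finrank_pos (by omega)
  let b := Module.finBasisOfFinrankEq K X hX
  let e : X ≃ₗ[K] (Fin m → K) := b.equivFun
  let ι : (Fin m → K) → X := fun v => e.symm v
  have hι : Function.Injective ι := e.symm.injective
  let tr : Equiv.Perm X → Equiv.Perm (Fin m → K) := fun w =>
    (e.symm.toEquiv.trans w).trans e.toEquiv
  have htr : ∀ w v, tr w v = e (w (e.symm v)) := fun w v => rfl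
  have hres : ∀ w, Res ι w (tr w) := by
    intro w v
    change w (e.symm v) = e.symm (tr w v)
    rw [htr, e.symm_apply_apply]
  have hsemi : ∀ {θ : K ≃+* K} {w : Equiv.Perm X}, Semi θ w → Semi θ (tr w) := by
    intro θ w hw
    refine ⟨fun u v => ?_, fun a v => ?_⟩
    · rw [htr, htr, htr, map_add, hw.add, map_add]
    · rw [htr, htr, map_smul, hw.smul, map_smul]
  have hsc : ∀ (w : Equiv.Perm X) (w0 : Equiv.Perm (Fin m → K)), Res ι w w0 → IsScal K w →
      IsScal K w0 := by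
    rintro w w0 hw ⟨a, ha⟩
    refine ⟨a, fun v => hι ?_⟩
    rw [← hw, ha]
    exact (map_smul e.symm a v).symm
  have hsc' : ∀ (w : Equiv.Perm X) (w0 : Equiv.Perm (Fin m → K)), Res ι w w0 → IsScal K w0 →
      IsScal K w := by
    rintro w w0 hw ⟨a, ha⟩
    refine ⟨a, fun v => ?_⟩
    have h1 := hw (e v)
    change w (e.symm (e v)) = e.symm (w0 (e v)) at h1
    rw [e.symm_apply_apply] at h1
    rw [h1, ha, map_smul, e.symm_apply_apply]
  refine SPs.of_res hι (hres y) (hres z) ?_ hsc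
    (sps_SL_fin hm hp hrow (hsemi hy) (hsemi hz)
      (hsc _ _ ((hres y).pow p) hyp)
      (fun h => hyn (hsc' _ _ (hres y) h)) (hsc _ _ ((hres z).pow p) hzp)
      (fun h => hzn (hsc' _ _ (hres z) h)))
  rintro _ ⟨s, rfl⟩
  have hdet : (s : Matrix (Fin m) (Fin m) K).det = 1 := s.2
  let f : (Fin m → K) ≃ₗ[K] (Fin m → K) :=
    { toFun := Cfsg.Agent.H897.MeetPSL.rho m K s
      invFun := (Cfsg.Agent.H897.MeetPSL.rho m K s).symm
      left_inv := fun v => Equiv.symm_apply_apply _ _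
      right_inv := fun v => Equiv.apply_symm_apply _ _
      map_add' := (semi_rhoSL s).add
      map_smul' := (semi_rhoSL s).smul }
  have hf : (f : (Fin m → K) →ₗ[K] (Fin m → K)) = Matrix.toLin' (s : Matrix (Fin m) (Fin m) K) := by
    refine LinearMap.ext fun v => ?_
    rw [Matrix.toLin'_apply]
    rfl
  refine ⟨toA (e.trans (f.trans e.symm)), ⟨e.trans (f.trans e.symm), ?_, rfl⟩, fun v => ?_⟩
  · change LinearEquiv.det (e.trans (f.trans e.symm)) = 1
    apply Units.ext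
    rw [LinearEquiv.coe_det, Units.val_one]
    have h1 : ((e.trans (f.trans e.symm) : X ≃ₗ[K] X) : X →ₗ[K] X)
        = (e.symm : (Fin m → K) →ₗ[K] X) ∘ₗ (f : (Fin m → K) →ₗ[K] (Fin m → K)) ∘ₗ
          (e : X →ₗ[K] (Fin m → K)) := rfl
    rw [h1]
    have h2 := LinearMap.det_conj (f : (Fin m → K) →ₗ[K] (Fin m → K)) e.symm
    rw [LinearEquiv.symm_symm] at h2
    rw [h2, hf, LinearMap.det_toLin', hdet]
  · change e.symm (f (e (e.symm v))) = e.symm (Cfsg.Agent.H897.MeetPSL.rho m K s v)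
    rw [e.apply_symm_apply]
    rfl

end PSL

section PSU

open Cfsg.Agent.LieClassical.HermBasic Cfsg.Agent.LieClassical.HermSiegel
  Cfsg.Agent.LieClassical.SUBasic Matrix Cfsg.Agent.ClassicalGeometry.PSUAutCount
  Cfsg.Agent.ClassicalGeometry.UnitAutBasic
open Cfsg.Agent.H177.MeetPSU (rho rho_apply rho_injective yy yy_apply ind_yy uniq)

variable {F : Type} [Field F] {n q p : ℕ}

/-- The group of semilinear isometries. -/
def SIg (F : Type) [Field F] (n q : ℕ) : Subgroup (Equiv.Perm (Fin n → F)) where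
  carrier := {w | ∃ θ : F ≃+* F, SI q θ w}
  mul_mem' := by
    rintro a b ⟨θ, h⟩ ⟨θ', h'⟩
    exact ⟨θ * θ', h.mul h'⟩
  one_mem' := ⟨1, SI.one⟩
  inv_mem' := by
    rintro a ⟨θ, h⟩
    exact ⟨θ⁻¹, h.inv⟩

variable [Fintype F]

theorem exists_yy (hF : Fintype.card F = q ^ 2) {θ : F ≃+* F} {y : Equiv.Perm (Fin n → F)}
    (hy : SI q θ y) : ∃ A : GU n F q, y = yy A θ := by
  let L : (Fin n → F) →ₗ[F] (Fin n → F) :=
    { toFun := fun v => y fun i => θ.symm (v i)
      map_add' := fun u v => by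
        rw [← hy.semi.add]
        congr 1
        funext i
        exact map_add θ.symm _ _
      map_smul' := fun c v => by
        have h3 : (fun i => θ.symm ((c • v) i)) = θ.symm c • fun i => θ.symm (v i) := by
          funext i
          exact map_mul θ.symm _ _
        rw [h3, hy.semi.smul, RingEquiv.apply_symm_apply]
        rfl }
  set M := LinearMap.toMatrix' L with hM
  have hMv : ∀ v, M *ᵥ v = y fun i => θ.symm (v i) := fun v => by
    rw [hM, LinearMap.toMatrix'_mulVec]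
    rfl
  have hyM : ∀ v, y v = M *ᵥ fun i => θ (v i) := fun v => by
    rw [hMv]
    simp only [RingEquiv.symm_apply_apply]
  have hherm : ∀ u v, hermForm n F q (M *ᵥ u) (M *ᵥ v) = hermForm n F q u v := by
    intro u v
    rw [hMv, hMv, hy.herm, herm_map, RingEquiv.apply_symm_apply]
  obtain ⟨A0, hA0, hA⟩ := ClassicalGeometry.HermOrtho.exists_GU_of_isometry (M := M) hF hherm
  let A : GU n F q := ⟨A0, hA0⟩
  have hgA : gm A = M := hA
  refine ⟨A, ?_⟩
  ext1 v
  rw [yy_apply, hgA, hyM]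

theorem uniqSU (hF : Fintype.card F = q ^ 2) (hn : 3 ≤ n) {y : Equiv.Perm (Fin n → F)}
    (hy : y ∈ SIg F n q) (hI : Ind (pr n F q) (rho n F q) y 1) : IsScal F y := by
  obtain ⟨θ, hθ⟩ := hy
  obtain ⟨a, ha⟩ := uniq hF hn ⟨θ, 1, one_ne_zero, ⟨hθ.semi.add, hθ.semi.smul⟩, fun u v => by
    rw [one_mul, hθ.herm]⟩ hI
  rw [ha]
  exact isScal_scal a

omit [Fintype F] in
theorem rho_range_le : (rho n F q).range ≤ SIg F n q := by
  rintro _ ⟨s, rfl⟩
  exact ⟨1, H957.T5U.si_rho s⟩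

/-- **Pairs of semilinear isometries.** -/
theorem sps_SU (hF : Fintype.card F = q ^ 2) (hn : 3 ≤ n) (hp : p.Prime)
    (hrow : SRow p (PSU n F q)) {σ τ : F ≃+* F} {y z : Equiv.Perm (Fin n → F)} (hy : SI q σ y)
    (hz : SI q τ z) (hyp : IsScal F (y ^ p)) (hyn : ¬ IsScal F y) (hzp : IsScal F (z ^ p))
    (hzn : ¬ IsScal F z) : SPs F p (rho n F q).range y z := by
  have : Nonempty (Fin n) := ⟨⟨0, by omega⟩⟩
  have : Nontrivial (Fin n → F) := Function.nontrivial
  have : Finite (SU n F q) := Finite.of_injective _ (rho_injective (n := n) (F := F) (q := q))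
  have : Finite (PSU n F q) := Finite.of_surjective _ (pr_surjective (n := n) (F := F) (q := q))
  refine core_of_srow (F := F) hp (π := pr n F q) pr_surjective rho_injective
    (fun s => (H957.T5U.si_rho s).semi) (W := SIg F n q) ?_ (fun y hy h => uniqSU hF hn hy h) hrow
    ⟨σ, hy⟩ ⟨τ, hz⟩ hyp hyn hzp hzn
  rintro y ⟨θ, hθ⟩
  obtain ⟨A, rfl⟩ := exists_yy hF hθ
  exact ⟨_, ind_yy A θ⟩

/-- **The strong row of `PSU` from pairs of semilinear isometries.** -/
theorem srow_SU (hF : Fintype.card F = q ^ 2) (hn : 3 ≤ n) (h32 : ¬ (n = 3 ∧ q = 2))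
    (hp : p.Prime)
    (hcore : ∀ (σ τ : F ≃+* F) (y z : Equiv.Perm (Fin n → F)), SI q σ y → SI q τ z →
      IsScal F (y ^ p) → ¬ IsScal F y → IsScal F (z ^ p) → ¬ IsScal F z →
      SPs F p (rho n F q).range y z) : SRow p (PSU n F q) := by
  have : Nonempty (Fin n) := ⟨⟨0, by omega⟩⟩
  have : Nontrivial (Fin n → F) := Function.nontrivial
  have : Finite (SU n F q) := Finite.of_injective _ (rho_injective (n := n) (F := F) (q := q))
  have : Finite (PSU n F q) := Finite.of_surjective _ (pr_surjective (n := n) (F := F) (q := q))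
  refine srow_of_core (F := F) hp (π := pr n F q) pr_surjective (ρ := rho n F q) rho_injective
    (fun s => (H957.T5U.si_rho s).semi) (W := SIg F n q) rho_range_le ?_
    (fun y hy h => uniqSU hF hn hy h) ?_
  · intro β _
    obtain ⟨A, θ, rfl⟩ := Cfsg.Agent.ClassicalGeometry.PSUAutMain.exists_toAut hF hn h32 β
    refine ⟨yy A θ, ⟨θ, ⟨fun u v => ?_, fun a v => ?_⟩, fun u v => herm_semi A θ u v⟩, ind_yy A θ⟩
    · rw [yy_apply, yy_apply, yy_apply, ← Matrix.mulVec_add]
      congr 1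
      funext i
      exact map_add θ _ _
    · rw [yy_apply, yy_apply, ← Matrix.mulVec_smul]
      congr 1
      funext i
      exact map_mul θ _ _
  · rintro y ⟨θ, hy⟩ z ⟨θ', hz⟩ hyp hyn hzp hzn
    exact hcore _ _ _ _ hy hz hyp hyn hzp hzn

end PSU

end Cfsg.Agent.H43.SP
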