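import Cfsg.Agent.H43.SP.Blk
import Cfsg.Agent.H957.T5U14

/-!
# S2274, row `PSU`, cross characteristic: blocks of the elements of the different types
-/

set_option autoImplicit false

namespace Cfsg.Agent.H43.SP

open Cfsg Cfsg.Agent.LieClassical.HermBasic Cfsg.Agent.LieClassical.HermSiegel
open Cfsg.Agent.H957.T5V Cfsg.Agent.H957.T5Conf Cfsg.Agent.H957.T5Pairs Cfsg.Agent.H957.T5U
open Cfsg.Agent.ClassicalGeometry.HermOrtho
open Polynomial

variable {F : Type} [Field F] [Fintype F] {n m q p : ℕ}
variable {θ : F ≃+* F} {c : Equiv.Perm (Fin n → F)}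

theorem blk_of_nt (hF : Fintype.card F = q ^ 2) (hpF : (p : F) ≠ 0)
    (hc : SI q (1 : F ≃+* F) c) {P : F[X]} (h : NT q p c P) (hdeg : 2 ≤ P.natDegree) :
    ∃ b : Fin P.natDegree → (Fin n → F), Blk q c b := by
  obtain ⟨⟨f, j, l, u, hfc, hj, hN, hl, hlp, hPd, hu, hPu⟩, hirr⟩ := h
  have hfm : ∀ (m : ℕ) (v : Fin n → F), (f ^ m) v = (c ^ m) v := by
    intro m
    induction m with
    | zero => intro v; rfl
    | succ m ih =>
      intro v
      rw [pow_succ, pow_succ]
      change (f ^ m) (f v) = (c ^ m) (c v)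
      rw [ih, hfc]
  have hf : ∀ u v, hermForm n F q (f u) (f v) = hermForm n F q u v := by
    intro u v
    rw [hfc, hfc]
    exact hc.herm u v
  have hfN : f ^ (q ^ j + 1) = 1 := by
    refine LinearMap.ext fun v => ?_
    rw [hfm, hN]
    rfl
  have hfp : f ^ p = algebraMap F _ l := by
    refine LinearMap.ext fun v => ?_
    rw [hfm, hlp, Module.algebraMap_end_apply]
  obtain ⟨w, hPw, hww⟩ := exists_aniso hF hj hf hfN hpF hl hfp hPd hu hPu
  have hw0 : w ≠ 0 := by
    rintro rfl
    exact hww (herm_zero_left _)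
  have hdvd : ∀ a : F[X], aeval f a w = 0 → P ∣ a := by
    intro a ha
    by_contra hcon
    obtain ⟨A, B, hAB⟩ := (hirr.coprime_iff_not_dvd (n := a)).2 hcon
    apply hw0
    have := congrArg (fun r => aeval f r w) hAB
    simp only [map_add, LinearMap.add_apply, map_one, Module.End.one_apply, map_mul,
      Module.End.mul_apply, ha, hPw, map_zero, add_zero] at this
    exact this.symm
  let Φ : Polynomial.degreeLT F P.natDegree →ₗ[F] (Fin n → F) :=
    (LinearMap.applyₗ w) ∘ₗ (aeval f).toLinearMap ∘ₗ (Polynomial.degreeLT F P.natDegree).subtype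
  have hΦ : ∀ a : Polynomial.degreeLT F P.natDegree, Φ a = aeval f (a : F[X]) w := fun a => rfl
  have hinj : Function.Injective Φ := by
    rw [injective_iff_map_eq_zero]
    intro a ha
    rw [hΦ] at ha
    apply Subtype.ext
    have h1 := Polynomial.mem_degreeLT.1 a.2
    rw [← Polynomial.degree_eq_natDegree hirr.ne_zero] at h1
    exact eq_zero_of_dvd_of_degree_lt (hdvd _ ha) h1
  set W := LinearMap.range Φ with hW
  have hfr : Module.finrank F W = P.natDegree := by
    rw [hW, LinearMap.finrank_range_of_inj hinj,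
      (Polynomial.degreeLTEquiv F P.natDegree).finrank_eq, Module.finrank_fin_fun]
  have hmem : ∀ a : F[X], aeval f a w ∈ W := by
    intro a
    have h1 : aeval f a w = aeval f (a % P) w := by
      conv_lhs => rw [← EuclideanDomain.div_add_mod a P]
      rw [map_add, mul_comm, map_mul, LinearMap.add_apply, Module.End.mul_apply, hPw, map_zero,
        zero_add]
    rw [h1]
    exact ⟨⟨a % P, Polynomial.mem_degreeLT.2 (by
      rw [← Polynomial.degree_eq_natDegree hirr.ne_zero]
      exact Polynomial.degree_mod_lt a hirr.ne_zero)⟩, rfl⟩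
  have hmem' : ∀ v ∈ W, ∃ a : F[X], aeval f a w = v := by
    rintro _ ⟨a, rfl⟩
    exact ⟨a, rfl⟩
  have hnd : ∀ u ∈ W, (∀ v ∈ W, hermForm n F q u v = 0) → u = 0 := by
    intro u hu h
    by_contra hu0
    obtain ⟨a, rfl⟩ := hmem' u hu
    have hna : ¬ P ∣ a := by
      rintro ⟨r, rfl⟩
      apply hu0
      rw [mul_comm, map_mul, Module.End.mul_apply, hPw, map_zero]
    obtain ⟨A, B, hAB⟩ := (hirr.coprime_iff_not_dvd (n := a)).2 hna
    apply hww
    have h1 := congrArg (fun r => aeval f r w) hAB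
    simp only [map_add, LinearMap.add_apply, map_one, Module.End.one_apply, map_mul,
      Module.End.mul_apply, hPw, map_zero, zero_add] at h1
    have h2 : hermForm n F q (aeval f B (aeval f a w)) w = 0 := by
      rw [herm_aeval hF hj hf hfN]
      exact h _ (hmem _)
    rwa [h1] at h2
  obtain ⟨b, hbW, hb⟩ := exists_orthonormal hF W hnd hfr
  have hsp : Submodule.span F (Set.range b) = W :=
    span_eq_of_orthonormal W (by rw [hfr, Fintype.card_fin]) hbW hb
  refine ⟨b, hb, ?_, ?_⟩
  · rw [hsp]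
    intro v hv
    obtain ⟨a, rfl⟩ := hmem' v hv
    have h1 : c (aeval f a w) = aeval f (X * a) w := by
      rw [map_mul, aeval_X, Module.End.mul_apply, hfc]
    rw [h1]
    exact hmem _
  · rw [hsp]
    rintro ⟨t, ht⟩
    have hwW : w ∈ W := by
      have := hmem 1
      rwa [map_one, Module.End.one_apply] at this
    have h1 : aeval f (X - C t) w = 0 := by
      rw [map_sub, aeval_X, aeval_C, LinearMap.sub_apply, Module.algebraMap_end_apply, hfc,
        ht w hwW, sub_self]
    have h2 := natDegree_le_of_dvd (hdvd _ h1) (X_sub_C_ne_zero t)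
    rw [natDegree_X_sub_C] at h2
    omega

theorem blk_fix (hF : Fintype.card F = q ^ 2) (hp : p.Prime) (hp2 : p ≠ 2)
    (hθ : orderOf θ = p) (hc : SI q θ c) (hcp : c ^ p = 1) (hm : 1 ≤ m) (hmn : m ≤ n) :
    ∃ b : Fin m → (Fin n → F), Blk q c b := by
  obtain ⟨b, hb, hcb⟩ := exists_onb_fix hF hp hp2 hθ hc hcp m hmn
  have hsum : ∀ x : Fin m → F, c (iob b x) = iob b (fun i => θ (x i)) := by
    intro x
    have h1 : ∀ t : Finset (Fin m), c (∑ i ∈ t, x i • b i) = ∑ i ∈ t, θ (x i) • b i := by
      intro t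
      induction t using Finset.induction_on with
      | empty => simp [hc.semi.zero]
      | insert a t ha ih =>
        rw [Finset.sum_insert ha, Finset.sum_insert ha, hc.semi.add, ih, hc.semi.smul, hcb]
    exact h1 _
  refine ⟨b, hb, fun v hv => ?_, ?_⟩
  · obtain ⟨x, rfl⟩ := exists_iob hv
    rw [hsum]
    exact iob_mem _
  · rintro ⟨t, ht⟩
    have h0 : (⟨0, by omega⟩ : Fin m) = (⟨0, by omega⟩ : Fin m) := rfl
    set i0 : Fin m := ⟨0, by omega⟩
    have hb0 : b i0 ≠ 0 := (linearIndependent_of_orthonormal hb).ne_zero i0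
    have h1 := ht (b i0) (Submodule.subset_span ⟨i0, rfl⟩)
    rw [hcb] at h1
    have ht1 : t = 1 := by
      have h2 : (1 - t) • b i0 = 0 := by rw [sub_smul, one_smul, ← h1, sub_self]
      exact (sub_eq_zero.1 ((smul_eq_zero.1 h2).resolve_right hb0)).symm
    have hθ1 : θ = 1 := by
      ext a
      have h2 := ht (a • b i0) (Submodule.smul_mem _ _ (Submodule.subset_span ⟨i0, rfl⟩))
      rw [hc.semi.smul, hcb, ht1, one_smul] at h2
      have h3 : (θ a - a) • b i0 = 0 := by rw [sub_smul, h2, sub_self]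
      exact sub_eq_zero.1 ((smul_eq_zero.1 h3).resolve_right hb0)
    rw [hθ1, orderOf_one] at hθ
    exact hp.one_lt.ne hθ

theorem blk_eig (hF : Fintype.card F = q ^ 2) (hp : p.Prime)
    (hpq : p ∣ q + 1) (hc : SI q (1 : F ≃+* F) c) (hcp : c ^ p = 1)
    (hns : ¬ IsScal F c) (hm : 2 ≤ m) (hmn : m ≤ n) :
    ∃ b : Fin m → (Fin n → F), Blk q c b := by
  obtain ⟨b, η, hb, hη, hηp, hηq, i, j, hij⟩ := exists_eig_data hF hp hpq (by omega) hc hcp hns
  have hne : i ≠ j := by rintro rfl; exact hij rfl
  let a0 : Fin n := ⟨0, by omega⟩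
  let a1 : Fin n := ⟨1, by omega⟩
  have h01 : a0 ≠ a1 := by
    intro h
    have := congrArg Fin.val h
    change 0 = 1 at this
    omega
  let e : Equiv.Perm (Fin n) := Equiv.swap (Equiv.swap a0 i a1) j * Equiv.swap a0 i
  have he0 : e a0 = i := by
    change Equiv.swap (Equiv.swap a0 i a1) j (Equiv.swap a0 i a0) = i
    rw [Equiv.swap_apply_left]
    refine Equiv.swap_apply_of_ne_of_ne ?_ hne
    intro h
    have h1 : Equiv.swap a0 i a0 = Equiv.swap a0 i a1 := by rw [Equiv.swap_apply_left, ← h]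
    exact h01 ((Equiv.swap a0 i).injective h1)
  have he1 : e a1 = j := by
    change Equiv.swap (Equiv.swap a0 i a1) j (Equiv.swap a0 i a1) = j
    rw [Equiv.swap_apply_left]
  let g : Fin m → Fin n := fun k => e (Fin.castLE hmn k)
  have hg : Function.Injective g := fun x y h => Fin.castLE_injective hmn (e.injective h)
  have hg0 : g ⟨0, by omega⟩ = i := he0
  have hg1 : g ⟨1, by omega⟩ = j := he1
  have hbg : ∀ k l : Fin m, hermForm n F q (b (g k)) (b (g l)) = if k = l then 1 else 0 := by
    intro k l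
    rw [hb]
    by_cases h : k = l
    · rw [if_pos h, if_pos (congrArg g h)]
    · rw [if_neg h, if_neg (fun h' => h (hg h'))]
  have hsum : ∀ x : Fin m → F, c (iob (fun k => b (g k)) x) =
      iob (fun k => b (g k)) (fun k => x k * η (g k)) := by
    intro x
    have h1 : ∀ t : Finset (Fin m), c (∑ k ∈ t, x k • b (g k)) =
        ∑ k ∈ t, (x k * η (g k)) • b (g k) := by
      intro t
      induction t using Finset.induction_on with
      | empty => simp [hc.semi.zero]
      | insert a t ha ih =>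
        rw [Finset.sum_insert ha, Finset.sum_insert ha, hc.semi.add, ih, hc.semi.smul, hη,
          smul_smul]
        rfl
    exact h1 _
  refine ⟨fun k => b (g k), hbg, fun v hv => ?_, ?_⟩
  · obtain ⟨x, rfl⟩ := exists_iob hv
    rw [hsum]
    exact iob_mem _
  · rintro ⟨t, ht⟩
    have key : ∀ k : Fin m, η (g k) = t := by
      intro k
      have h1 := ht (b (g k)) (Submodule.subset_span ⟨k, rfl⟩)
      rw [hη] at h1
      have h2 : (η (g k) - t) • b (g k) = 0 := by rw [sub_smul, h1, sub_self]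
      exact sub_eq_zero.1 ((smul_eq_zero.1 h2).resolve_right
        ((linearIndependent_of_orthonormal hb).ne_zero _))
    apply hij
    rw [← hg0, ← hg1, key, key]

end Cfsg.Agent.H43.SP
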