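import Cfsg.Agent.H43.SP.KRE
import Cfsg.Agent.H43.SP.Types
import Cfsg.Agent.H43.SP.Full3
import Cfsg.Agent.H650.S5.PsuC4SP
import Cfsg.Agent.H957.T5U14

/-!
# S2274, row `PSU_n(q)`, cross characteristic: assembly

`sps_main` : all pairs of semilinear isometries of order `p` modulo scalars, given the strong rows
of the smaller groups `PSL_2(q)`, `PSL_m(q ^ 2)` (`2 * m ≤ n`), `PSU_m(q)` (`m < n`).
-/

set_option autoImplicit false

namespace Cfsg.Agent.H43.SP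

open Cfsg Cfsg.Agent.LieClassical.HermBasic Cfsg.Agent.LieClassical.HermSiegel
open Cfsg.Agent.H533.T5 Cfsg.Agent.H106.MT Cfsg.Agent.H132.S5
open Cfsg.Agent.H957.T5V Cfsg.Agent.H957.T5Conf Cfsg.Agent.H957.T5Pairs Cfsg.Agent.H957.T5U
open Cfsg.Agent.H957.T5Main (isScal_of_pow_one not_isScal_smulA)
open Cfsg.Agent.H177.MeetPSU (rho rho_apply)
open Cfsg.Agent.H650.S5U (TB sps_TB)
open Polynomial

variable {F : Type} [Field F] [Fintype F] {n q p : ℕ} {σ τ : F ≃+* F}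
  {c d : Equiv.Perm (Fin n → F)}

/-- The rows of the smaller groups. -/
structure Rows (p : ℕ) (hF : Fintype.card F = q ^ 2) (n : ℕ) : Prop where
  h1 : 4 ≤ q → SRow p (Matrix.ProjectiveSpecialLinearGroup (Fin 2) (Kq hF))
  h2 : ∀ m, 2 ≤ m → 2 * m ≤ n → SRow p (Matrix.ProjectiveSpecialLinearGroup (Fin m) F)
  h3 : ∀ m, 3 ≤ m → m < n → ¬ (m = 3 ∧ q = 2) → SRow p (PSU m F q)

theorem not_dvd_sq (hp : p.Prime) (h1 : ¬ p ∣ q - 1) (h2 : ¬ p ∣ q + 1) : ¬ p ∣ q ^ 2 - 1 := by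
  intro h
  rw [show q ^ 2 - 1 = (q + 1) * (q - 1) by
    rw [show (1 : ℕ) = 1 ^ 2 by norm_num, Nat.sq_sub_sq, one_pow]] at h
  rcases hp.dvd_mul.1 h with h | h
  · exact h2 h
  · exact h1 h

theorem four_le_of_theta (hF : Fintype.card F = q ^ 2) (hp : p.Prime) (hp5 : 5 ≤ p)
    (hθ : orderOf σ = p) : 4 ≤ q := by
  obtain ⟨q0, hq, -⟩ := exists_q0 hF hp (by omega) hθ
  have h2 := two_le hF
  have h3 : 2 ≤ q0 := by
    by_contra hcon
    have h4 : q0 = 0 ∨ q0 = 1 := by omega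
    rcases h4 with rfl | rfl
    · rw [zero_pow (by omega)] at hq; omega
    · rw [one_pow] at hq; omega
  calc 4 ≤ 2 ^ 5 := by norm_num
    _ ≤ q0 ^ 5 := Nat.pow_le_pow_left h3 5
    _ ≤ q0 ^ p := Nat.pow_le_pow_right (by omega) hp5
    _ = q := hq.symm

theorem blk_of_nt' (hF : Fintype.card F = q ^ 2) (hpF : (p : F) ≠ 0)
    (hc : SI q (1 : F ≃+* F) c) {P : F[X]} (h : NT q p c P) {m : ℕ} (hm : 2 ≤ m)
    (hdeg : P.natDegree = m) : ∃ b : Fin m → (Fin n → F), Blk q c b := by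
  have h1 := blk_of_nt hF hpF hc h (by omega)
  rwa [hdeg] at h1

section core

variable (hF : Fintype.card F = q ^ 2) (hn : 3 ≤ n) (hp : p.Prime) (hp5 : 5 ≤ p)
  (hpF : (p : F) ≠ 0) (h32 : ¬ (n = 3 ∧ q = 2)) (hAA : AAHyp.{0} p) (hRS : RSHyp.{0} p)
  (hR : Rows p hF n)

include hF hn hp hp5 hpF h32 hAA hRS hR

theorem m_AA (hc : SI q (1 : F ≃+* F) c) (hcp : c ^ p = 1) (hcn : ¬ IsScal F c)
    (hd : SI q (1 : F ≃+* F) d) (hdp : d ^ p = 1) (hdn : ¬ IsScal F d) :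
    SPs F p (rho n F q).range c d := by
  have hp2 : p ≠ 2 := by omega
  have hnq := not_dvd_q hF hp hpF
  have hq2 := two_le hF
  obtain ⟨t, ht⟩ := exists_not_fixed hF
  have hε : t ^ q - t ≠ 0 := sub_ne_zero.2 ht
  have hεq : (t ^ q - t) ^ q = -(t ^ q - t) := by
    rw [sub_pow_q hF, pow_q_pow_q hF]
    ring
  by_cases h1 : p ∣ q - 1
  · obtain ⟨e, f, h⟩ := fr_split hF hp hp2 h1 hpF hc hcp hcn hε
    obtain ⟨e', f', h'⟩ := fr_split hF hp hp2 h1 hpF hd hdp hdn hε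
    have hq4 : 4 ≤ q := by have := Nat.le_of_dvd (by omega) h1; omega
    exact sps_plane hF hn hp (hR.h1 hq4) hε hεq hc hd h h' (isScal_of_pow_one hcp)
      (isScal_of_pow_one hdp)
  by_cases h2 : p ∣ q + 1
  · obtain ⟨s, hs, e, f, h⟩ := fr_eig hF hp hp2 h2 (by omega) hc hcp hcn ht
    obtain ⟨s', hs', e', f', h'⟩ := fr_eig hF hp hp2 h2 (by omega) hd hdp hdn ht
    have hq4 : 4 ≤ q := by have := Nat.le_of_dvd (by omega) h2; omega
    refine sps_of_smulA hc hd s s' ?_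
    exact sps_plane hF hn hp (hR.h1 hq4) hε hεq (hc.smulA hs) (hd.smulA hs') h h'
      (scal_pow_smulA hc s hcp) (scal_pow_smulA hd s' hdp)
  have h3 : ¬ p ∣ q ^ 2 - 1 := not_dvd_sq hp h1 h2
  have hm2 := two_le_ord hp hnq h3
  by_cases h4 : ∃ j, Odd j ∧ p ∣ q ^ j + 1
  · obtain ⟨j, hj, hpj⟩ := h4
    obtain ⟨P, hP, hPd⟩ := nt_one hF hp hpF hj hpj hc hcp hcn
    obtain ⟨P', hP', hPd'⟩ := nt_one hF hp hpF hj hpj hd hdp hdn
    have hdd := deg_data hp hp5 h3 hj hpj (by omega) rfl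
    have hm3 : 3 ≤ orderOf ((q : ZMod p) ^ 2) := by omega
    rcases (hPd ▸ hP.le_n : orderOf ((q : ZMod p) ^ 2) ≤ n).lt_or_eq with hlt | heq
    · obtain ⟨b, hb⟩ := blk_of_nt' hF hpF hc hP hm2 hPd
      obtain ⟨b', hb'⟩ := blk_of_nt' hF hpF hd hP' hm2 hPd'
      exact sps_blk hF hm3 hlt hp (hR.h3 _ hm3 hlt (by omega)) hc hd hb hb'
        (isScal_of_pow_one hcp) (isScal_of_pow_one hdp)
    · exact sps_full_AA hAA hRS hF hn h32 hp hpF heq.symm h2 hc hcp hcn hd hdp hdn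
  · push Not at h4
    have hti := ti_lin hF hp hpF h4 hc hcp hcn rfl hm2
    exact sps_ti hF hp hm2 (hR.h2 _ hm2 (hti.le hF)) hc hd hti
      (ti_lin hF hp hpF h4 hd hdp hdn rfl hm2) (isScal_of_pow_one hcp) (isScal_of_pow_one hdp)

theorem m_AC (hc : SI q (1 : F ≃+* F) c) (hcp : c ^ p = 1) (hcn : ¬ IsScal F c)
    (hτ : orderOf τ = p) (hd : SI q τ d) (hdp : d ^ p = 1) :
    SPs F p (rho n F q).range c d := by
  have hp2 : p ≠ 2 := by omega
  have hp3 : 3 ≤ p := by omega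
  have hnq := not_dvd_q hF hp hpF
  have hq2 := two_le hF
  have hq4 : 4 ≤ q := four_le_of_theta hF hp hp5 hτ
  obtain ⟨t, htτ, ht⟩ := exists_tau hF hp hp2 hτ
  have hε : t ^ q - t ≠ 0 := sub_ne_zero.2 ht
  have hεq : (t ^ q - t) ^ q = -(t ^ q - t) := by
    rw [sub_pow_q hF, pow_q_pow_q hF]
    ring
  by_cases h1 : p ∣ q - 1
  · obtain ⟨e, f, h⟩ := fr_split hF hp hp2 h1 hpF hc hcp hcn hε
    obtain ⟨e', f', h'⟩ := fr_semi hF hp hp3 hτ hd hdp (by omega) htτ ht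
    exact sps_plane hF hn hp (hR.h1 hq4) hε hεq hc hd h h' (isScal_of_pow_one hcp)
      (isScal_of_pow_one hdp)
  by_cases h2 : p ∣ q + 1
  · obtain ⟨s, hs, e, f, h⟩ := fr_eig hF hp hp2 h2 (by omega) hc hcp hcn ht
    obtain ⟨e', f', h'⟩ := fr_semi hF hp hp3 hτ hd hdp (by omega) htτ ht
    refine sps_of_scl hc hd (scl_smulA s c) (Scl.refl d) ?_
    exact sps_plane hF hn hp (hR.h1 hq4) hε hεq (hc.smulA hs) hd h h'
      (scal_pow_smulA hc s hcp) (isScal_of_pow_one hdp)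
  have h3 : ¬ p ∣ q ^ 2 - 1 := not_dvd_sq hp h1 h2
  have hm2 := two_le_ord hp hnq h3
  by_cases h4 : ∃ j, Odd j ∧ p ∣ q ^ j + 1
  · obtain ⟨j, hj, hpj⟩ := h4
    obtain ⟨P, hP, hPd⟩ := nt_one hF hp hpF hj hpj hc hcp hcn
    have hdd := deg_data hp hp5 h3 hj hpj (by omega) rfl
    have hm3 : 3 ≤ orderOf ((q : ZMod p) ^ 2) := by omega
    rcases (hPd ▸ hP.le_n : orderOf ((q : ZMod p) ^ 2) ≤ n).lt_or_eq with hlt | heq
    · obtain ⟨b, hb⟩ := blk_of_nt' hF hpF hc hP hm2 hPd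
      obtain ⟨b', hb'⟩ := blk_fix (m := orderOf ((q : ZMod p) ^ 2)) hF hp hp2 hτ hd hdp
        (by omega) hlt.le
      exact sps_blk hF hm3 hlt hp (hR.h3 _ hm3 hlt (by omega)) hc hd hb hb'
        (isScal_of_pow_one hcp) (isScal_of_pow_one hdp)
    · refine ⟨apair_full_AC hRS hF hn ?_ hp hp2 hpF heq.symm h2 hτ hc hcp hcn hd hdp, ?_⟩
      · rintro ⟨h5, h6⟩
        rcases hdd with h7 | ⟨-, -, h7⟩
        · omega
        · exact h7 h6
      have hri : RI q d := ri_semi hF hp hp3 hτ hd hdp hn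
      rcases hdd with h5 | ⟨h5, h6, h7⟩
      · have hP5 : 5 ≤ P.natDegree := by omega
        exact bps_R hF (hP5.trans hP.le_n) hpF hc hd (hP.d5 hF hpF hc hP5) hri
      · obtain ⟨u0, u1, -, -, -, hu0, hβ⟩ := hri
        obtain ⟨ν, hν0, hν1, hντ, hνq⟩ := exists_nu hF hp hp2 hτ h7
        exact bps_E hF hn hc hd (hP.d3 hF hpF hc (by omega)) hu0 hβ hν0 hνq hντ
          (nu_pow hp h1 (by omega) hν0 hν1 hνq)
  · push Not at h4
    have hti := ti_lin hF hp hpF h4 hc hcp hcn rfl hm2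
    exact sps_ti hF hp hm2 (hR.h2 _ hm2 (hti.le hF)) hc hd hti
      (ti_semi hF hp hp3 hτ hd hdp (by omega) (hti.le hF)) (isScal_of_pow_one hcp)
      (isScal_of_pow_one hdp)

theorem m_CC (hσ : orderOf σ = p) (hc : SI q σ c) (hcp : c ^ p = 1)
    (hτ : orderOf τ = p) (hd : SI q τ d) (hdp : d ^ p = 1) :
    SPs F p (rho n F q).range c d := by
  have hq4 : 4 ≤ q := four_le_of_theta hF hp hp5 hτ
  obtain ⟨t, htσ, ht⟩ := exists_tau hF hp (by omega) hσ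
  obtain ⟨j, hj⟩ := exists_pow_inv hp hτ hσ
  have htτ : τ t = t := by
    have h1 : ∀ m : ℕ, (σ ^ m) t = t := by
      intro m
      induction m with
      | zero => rfl
      | succ m ih =>
        rw [pow_succ]
        change (σ ^ m) (σ t) = t
        rw [htσ, ih]
    have h2 := h1 j
    rw [hj] at h2
    have h3 : τ (τ⁻¹ t) = t := RingEquiv.apply_symm_apply τ t
    rwa [h2] at h3
  have hε : t ^ q - t ≠ 0 := sub_ne_zero.2 ht
  have hεq : (t ^ q - t) ^ q = -(t ^ q - t) := by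
    rw [sub_pow_q hF, pow_q_pow_q hF]
    ring
  obtain ⟨e, f, h⟩ := fr_semi hF hp (by omega) hσ hc hcp (by omega) htσ ht
  obtain ⟨e', f', h'⟩ := fr_semi hF hp (by omega) hτ hd hdp (by omega) htτ ht
  exact sps_plane hF hn hp (hR.h1 hq4) hε hεq hc hd h h' (isScal_of_pow_one hcp)
    (isScal_of_pow_one hdp)

omit h32 hAA hRS hR in
/-- A `p`-dimensional block for an element of type B. -/
theorem blk_B (hc : SI q (1 : F ≃+* F) c) (hpq : p ∣ q + 1)
    (h : ∃ l : F, l * l ^ q = 1 ∧ (∀ v, (c ^ p) v = l • v) ∧ ∀ t : F, t ^ p ≠ l) :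
    p ≤ n ∧ ∃ b : Fin p → (Fin n → F), Blk q c b := by
  obtain ⟨l, hll, hl, hlp⟩ := h
  have hP := nt_two hF (by omega) hp (by omega) hpq hc hll hl hlp
  have hdeg : (X ^ p - C l : F[X]).natDegree = p := natDegree_X_pow_sub_C
  obtain ⟨b, hb⟩ := blk_of_nt' hF hpF hc hP (by omega) hdeg
  exact ⟨by rw [← hdeg]; exact hP.le_n, b, hb⟩

omit h32 hAA in
/-- Type B for `n > p`. -/
theorem m_B_lt (hpn : p < n) (hpq : p ∣ q + 1) (hc : SI q (1 : F ≃+* F) c)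
    (hcp : IsScal F (c ^ p))
    (h : ∃ l : F, l * l ^ q = 1 ∧ (∀ v, (c ^ p) v = l • v) ∧ ∀ t : F, t ^ p ≠ l)
    (hd : SI q τ d) (hdp : IsScal F (d ^ p)) (hdn : ¬ IsScal F d)
    (hτ : τ = 1 ∨ orderOf τ = p) : SPs F p (rho n F q).range c d := by
  have hp2 : p ≠ 2 := by omega
  have hn0 : 0 < n := by omega
  obtain ⟨-, b, hb⟩ := blk_B hF hn hp hp5 hpF hc hpq h
  have hrow := hR.h3 p (by omega) hpn (by omega)
  rcases hτ with rfl | hτ
  · rcases scale_lin hF hn0 hp hp2 hd hdp with ⟨t, ht, h2⟩ | ⟨hpq', h2⟩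
    · refine sps_of_scl hc hd (Scl.refl c) (scl_smulA t d) ?_
      obtain ⟨b', hb'⟩ := blk_eig (m := p) hF hp hpq (hd.smulA ht) h2 (not_isScal_smulA hdn)
        (by omega) hpn.le
      exact sps_blk hF (by omega) hpn hp hrow hc (hd.smulA ht) hb hb' hcp (isScal_of_pow_one h2)
    · obtain ⟨-, b', hb'⟩ := blk_B hF hn hp hp5 hpF hd hpq' h2
      exact sps_blk hF (by omega) hpn hp hrow hc hd hb hb' hcp hdp
  · obtain ⟨t, ht, h2⟩ := scale_semi hF hn0 hp hp2 hτ hd hdp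
    refine sps_of_scl hc hd (Scl.refl c) (scl_smulA t d) ?_
    obtain ⟨b', hb'⟩ := blk_fix (m := p) hF hp hp2 hτ (hd.smulA ht) h2 (by omega) hpn.le
    exact sps_blk hF (by omega) hpn hp hrow hc (hd.smulA ht) hb hb' hcp (isScal_of_pow_one h2)

omit hAA in
/-- Type B. -/
theorem m_B (hpq : p ∣ q + 1) (hc : SI q (1 : F ≃+* F) c)
    (hcp : IsScal F (c ^ p)) (hcn : ¬ IsScal F c)
    (h : ∃ l : F, l * l ^ q = 1 ∧ (∀ v, (c ^ p) v = l • v) ∧ ∀ t : F, t ^ p ≠ l)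
    (hd : SI q τ d) (hdp : IsScal F (d ^ p)) (hdn : ¬ IsScal F d)
    (hτ : τ = 1 ∨ orderOf τ = p) : SPs F p (rho n F q).range c d := by
  obtain ⟨hpn, -⟩ := blk_B hF hn hp hp5 hpF hc hpq h
  rcases hpn.lt_or_eq with hlt | rfl
  · exact m_B_lt hF hn hp hp5 hpF hRS hR hlt hpq hc hcp h hd hdp hdn hτ
  · have := psu_simple hF hn h32
    exact sps_TB (psu_na hF hn h32) hRS hF hp hp5 hpF hc hcp hcn hd hdp hdn
      (Or.inl ⟨hc, hpq, h⟩)

/-- **All pairs of semilinear isometries of order `p` modulo scalars.** -/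
theorem sps_main (hc : SI q σ c) (hcp : IsScal F (c ^ p)) (hcn : ¬ IsScal F c)
    (hd : SI q τ d) (hdp : IsScal F (d ^ p)) (hdn : ¬ IsScal F d) :
    SPs F p (rho n F q).range c d := by
  have hp2 : p ≠ 2 := by omega
  have hn0 : 0 < n := by omega
  have : Fact p.Prime := ⟨hp⟩
  have hord : ∀ {θ : F ≃+* F} {x : Equiv.Perm (Fin n → F)}, SI q θ x → IsScal F (x ^ p) →
      θ = 1 ∨ orderOf θ = p := by
    intro θ x hx ⟨a, ha⟩
    have h1 : θ ^ p = 1 := by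
      have hv : ∃ v : Fin n → F, v ≠ 0 := ⟨fun _ => 1, fun h => one_ne_zero (congrFun h ⟨0, hn0⟩)⟩
      obtain ⟨v, hv⟩ := hv
      have ha0 : a ≠ 0 := by
        rintro rfl
        apply hv
        have h2 := ha v
        rw [zero_smul] at h2
        exact (x ^ p).injective (h2.trans (hx.pow p).semi.zero.symm)
      ext b
      have h2 := (hx.pow p).semi.smul b v
      rw [ha, ha, smul_smul, smul_smul, mul_comm a b] at h2
      have h3 : (b * a - (θ ^ p) b * a) • v = 0 := by rw [sub_smul, h2, sub_self]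
      have h4 := (smul_eq_zero.1 h3).resolve_right hv
      have h5 : b * a = (θ ^ p) b * a := sub_eq_zero.1 h4
      exact (mul_right_cancel₀ ha0 h5).symm
    by_cases h : θ = 1
    · exact Or.inl h
    · exact Or.inr (orderOf_eq_prime h1 h)
  have hos := hord hc hcp
  have hot := hord hd hdp
  -- type B
  have hB : ∀ {σ τ : F ≃+* F} {c d : Equiv.Perm (Fin n → F)}, p ∣ q + 1 →
      (∃ l : F, l * l ^ q = 1 ∧ (∀ v, (c ^ p) v = l • v) ∧ ∀ t : F, t ^ p ≠ l) → SI q σ c →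
      σ = 1 → IsScal F (c ^ p) → ¬ IsScal F c → SI q τ d → IsScal F (d ^ p) → ¬ IsScal F d →
      (τ = 1 ∨ orderOf τ = p) → SPs F p (rho n F q).range c d := by
    rintro σ τ c d hpq h hc rfl hcp hcn hd hdp hdn hτ
    exact m_B hF hn hp hp5 hpF h32 hRS hR hpq hc hcp hcn h hd hdp hdn hτ
  have hot' := hot
  have hos' := hos
  rcases hos with rfl | hσ <;> rcases hot with rfl | hτ
  · rcases scale_lin hF hn0 hp hp2 hc hcp with ⟨s, hs, h1⟩ | ⟨hpq, h1⟩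
    · rcases scale_lin hF hn0 hp hp2 hd hdp with ⟨t, ht, h2⟩ | ⟨hpq', h2⟩
      · exact sps_of_smulA hc hd s t (m_AA hF hn hp hp5 hpF h32 hAA hRS hR (hc.smulA hs) h1
          (not_isScal_smulA hcn) (hd.smulA ht) h2 (not_isScal_smulA hdn))
      · exact sps_symm hc (hB hpq' h2 hd rfl hdp hdn hc hcp hcn hos')
    · exact hB hpq h1 hc rfl hcp hcn hd hdp hdn hot'
  · rcases scale_lin hF hn0 hp hp2 hc hcp with ⟨s, hs, h1⟩ | ⟨hpq, h1⟩
    · obtain ⟨t, ht, h2⟩ := scale_semi hF hn0 hp hp2 hτ hd hdp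
      exact sps_of_smulA hc hd s t (m_AC hF hn hp hp5 hpF h32 hAA hRS hR (hc.smulA hs) h1
        (not_isScal_smulA hcn) hτ (hd.smulA ht) h2)
    · exact hB hpq h1 hc rfl hcp hcn hd hdp hdn hot'
  · apply sps_symm hc
    rcases scale_lin hF hn0 hp hp2 hd hdp with ⟨s, hs, h1⟩ | ⟨hpq, h1⟩
    · obtain ⟨t, ht, h2⟩ := scale_semi hF hn0 hp hp2 hσ hc hcp
      exact sps_of_smulA hd hc s t (m_AC hF hn hp hp5 hpF h32 hAA hRS hR (hd.smulA hs) h1
        (not_isScal_smulA hdn) hσ (hc.smulA ht) h2)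
    · exact hB hpq h1 hd rfl hdp hdn hc hcp hcn hos'
  · obtain ⟨s, hs, h1⟩ := scale_semi hF hn0 hp hp2 hσ hc hcp
    obtain ⟨t, ht, h2⟩ := scale_semi hF hn0 hp hp2 hτ hd hdp
    exact sps_of_smulA hc hd s t (m_CC hF hn hp hp5 hpF h32 hAA hRS hR hσ (hc.smulA hs) h1 hτ
      (hd.smulA ht) h2)

/-- **The strong row of `PSU_n(q)`, cross characteristic, from the rows of the smaller groups.** -/
theorem srow_psu : SRow p (PSU n F q) :=
  srow_SU hF hn h32 hp fun _ _ _ _ hy hz hyp hyn hzp hzn =>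
    sps_main hF hn hp hp5 hpF h32 hAA hRS hR hy hyp hyn hz hzp hzn

end core

end Cfsg.Agent.H43.SP
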