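import Cfsg.Agent.H132.S5.Pairs
import Cfsg.Agent.H957.T5U1
import Cfsg.Agent.H957.T5Tr

/-!
# S2274: semilinear maps and the strong pair predicate

`BPs F p E c d` : part (b) modulo scalars for `E`-conjugates; `SPs F p E c d` : parts (a) and (b).
`srow_of_core`, `core_of_srow` : the strong row of `T = π(X)` and pairs of semilinear maps.
`SPs.of_res` : restriction to an invariant subspace (or form).
-/

set_option autoImplicit false

namespace Cfsg.Agent.H43.SP

open Cfsg.Agent.H533.T5 Cfsg.Agent.H106.MT Cfsg.Agent.H132.S5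
open Cfsg.Agent.H957.T5V Cfsg.Agent.H957.T5Tr Cfsg.Agent.H957.T5Pairs
open Cfsg.Agent.H903.SylSemi (Ind scal scal_apply)
open Cfsg.Agent.H957.T5U (Res)

section defs

variable (F : Type*) [Field F] {V : Type*} [AddCommGroup V] [Module F V]

/-- part (b) modulo scalars -/
def BPs (p : ℕ) (E : Subgroup (Equiv.Perm V)) (c d : Equiv.Perm V) : Prop :=
  ∃ g ∈ E, ∀ k : ℕ, ¬ IsScal F ((c * (g * d * g⁻¹)) ^ p ^ k)

/-- parts (a) and (b) -/
def SPs (p : ℕ) (E : Subgroup (Equiv.Perm V)) (c d : Equiv.Perm V) : Prop :=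
  APair E c d ∧ BPs F p E c d

end defs

section basic

variable {F : Type*} [Field F] {V : Type*} [AddCommGroup V] [Module F V]
variable {p : ℕ} {E E' : Subgroup (Equiv.Perm V)} {c d : Equiv.Perm V} {σ τ : F ≃+* F}

theorem BPs.mono (h : BPs F p E c d) (hE : E ≤ E') : BPs F p E' c d := by
  obtain ⟨g, hg, h⟩ := h
  exact ⟨g, hE hg, h⟩

theorem BPs.conj_right {s : Equiv.Perm V} (hs : s ∈ E) (h : BPs F p E c (s * d * s⁻¹)) :
    BPs F p E c d := by
  obtain ⟨g, hg, h⟩ := h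
  refine ⟨g * s, mul_mem hg hs, ?_⟩
  have : g * s * d * (g * s)⁻¹ = g * (s * d * s⁻¹) * g⁻¹ := by group
  rwa [this]

theorem BPs.symm (hd : Semi τ d) (hE : ∀ g ∈ E, Semi (1 : F ≃+* F) g) (h : BPs F p E c d) :
    BPs F p E d c := by
  obtain ⟨g, hg, h⟩ := h
  refine ⟨g⁻¹, inv_mem hg, fun k hk => h k ?_⟩
  have h1 : c * (g * d * g⁻¹) = (g * d⁻¹) * (d * (g⁻¹ * c * g⁻¹⁻¹)) * (g * d⁻¹)⁻¹ := by group
  rw [h1, conj_pow]
  exact isScal_conj ((hE g hg).mul hd.inv) hk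

theorem SPs.mono (h : SPs F p E c d) (hE : E ≤ E') : SPs F p E' c d := ⟨h.1.mono hE, h.2.mono hE⟩

theorem SPs.conj_right {s : Equiv.Perm V} (hs : s ∈ E) (h : SPs F p E c (s * d * s⁻¹)) :
    SPs F p E c d := ⟨h.1.conj_right hs, h.2.conj_right hs⟩

theorem SPs.symm (hd : Semi τ d) (hE : ∀ g ∈ E, Semi (1 : F ≃+* F) g) (h : SPs F p E c d) :
    SPs F p E d c := ⟨h.1.symm, h.2.symm hd hE⟩

/-! ### Scalar multiples -/

variable (F V) in
/-- The group of semilinear maps. -/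
def Sem : Subgroup (Equiv.Perm V) where
  carrier := {w | ∃ θ : F ≃+* F, Semi θ w}
  mul_mem' := by
    rintro a b ⟨θ, h⟩ ⟨θ', h'⟩
    exact ⟨θ * θ', h.mul h'⟩
  one_mem' := ⟨1, Semi.one⟩
  inv_mem' := by
    rintro a ⟨θ, h⟩
    exact ⟨θ⁻¹, h.inv⟩

theorem scl_inv {x y : Equiv.Perm V} {θ : F ≃+* F} (hy : Semi θ y) (h : Scl F x y) :
    Scl F x⁻¹ y⁻¹ := by
  obtain ⟨s, hs, h⟩ := h
  refine ⟨(θ.symm s)⁻¹, inv_ne_zero (by rwa [Ne, EmbeddingLike.map_eq_zero_iff]), fun v => ?_⟩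
  apply x.injective
  rw [apply_inv_self, h, hy.smul, apply_inv_self, smul_smul, map_inv₀, RingEquiv.apply_symm_apply,
    mul_inv_cancel₀ hs, one_smul]

theorem scl_trans {x y z : Equiv.Perm V} (h : Scl F x y) (h' : Scl F y z) : Scl F x z := by
  obtain ⟨s, hs, h⟩ := h
  obtain ⟨t, ht, h'⟩ := h'
  exact ⟨s * t, mul_ne_zero hs ht, fun v => by rw [h, h', smul_smul]⟩

theorem isScal_mul {x y : Equiv.Perm V} (hx : IsScal F x) (hy : IsScal F y) :
    IsScal F (x * y) := by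
  obtain ⟨a, ha⟩ := hx
  obtain ⟨b, hb⟩ := hy
  exact ⟨a * b, fun v => by rw [Equiv.Perm.mul_apply, ha, hb, smul_smul]⟩

theorem commute_of_isScal {x y : Equiv.Perm V} (hx : IsScal F x) (hy : IsScal F y) :
    Commute x y := by
  obtain ⟨a, ha⟩ := hx
  obtain ⟨b, hb⟩ := hy
  ext v
  rw [Equiv.Perm.mul_apply, Equiv.Perm.mul_apply, ha, hb, hb, ha, smul_smul, smul_smul, mul_comm]

/-- A group of permutations of `V` is solvable, if its image under a homomorphism with scalar kernel is. -/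
theorem solvable_of_scal_ker {G : Type*} [Group G] {Γ : Subgroup (Equiv.Perm V)} (φ : Γ →* G)
    (hφ : ∀ w : Γ, φ w = 1 → IsScal F (w : Equiv.Perm V)) (h : Group.IsSolvable G) :
    Group.IsSolvable Γ := by
  have h1 : Group.IsSolvable φ.ker :=
    Group.isSolvable_of_comm fun a b =>
      Subtype.ext (Subtype.ext (commute_of_isScal (F := F) (hφ a.1 a.2) (hφ b.1 b.2)).eq)
  exact Group.isSolvable_of_ker_le_range φ.ker.subtype φ (by rw [Subgroup.range_subtype])

end basic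

section scl

variable {F : Type*} [Field F] {V : Type*} [AddCommGroup V] [Module F V]
variable {p : ℕ} {E : Subgroup (Equiv.Perm V)} {c c' d d' : Equiv.Perm V} {σ τ : F ≃+* F}

/-- The scalar multiples of the elements of a solvable group of semilinear maps. -/
theorem solvable_of_scl {H K : Subgroup (Equiv.Perm V)} (hH : ∀ h ∈ H, ∃ θ : F ≃+* F, Semi θ h)
    (hK : ∀ w ∈ K, ∃ h ∈ H, Scl F w h) (h : Group.IsSolvable H) : Group.IsSolvable K := by
  let Γ : Subgroup (Equiv.Perm V) :=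
    { carrier := {w | ∃ h ∈ H, Scl F w h}
      mul_mem' := by
        rintro a b ⟨x, hx, hax⟩ ⟨y, hy, hby⟩
        obtain ⟨θ, hθ⟩ := hH x hx
        exact ⟨x * y, mul_mem hx hy, Scl.mul hθ hax hby⟩
      one_mem' := ⟨1, one_mem _, Scl.refl _⟩
      inv_mem' := by
        rintro a ⟨x, hx, hax⟩
        obtain ⟨θ, hθ⟩ := hH x hx
        exact ⟨x⁻¹, inv_mem hx, scl_inv hθ hax⟩ }
  have hHΓ : H ≤ Γ := fun x hx => ⟨x, hx, Scl.refl x⟩
  have hsemi : ∀ w ∈ Γ, ∃ θ : F ≃+* F, Semi θ w := by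
    rintro w ⟨x, hx, s, hs, hwx⟩
    obtain ⟨θ, hθ⟩ := hH x hx
    refine ⟨θ, fun u v => ?_, fun a v => ?_⟩
    · rw [hwx, hwx, hwx, hθ.add, smul_add]
    · rw [hwx, hwx, hθ.smul, smul_comm]
  have hone : IsScal F (1 : Equiv.Perm V) := ⟨1, fun v => by rw [one_smul]; rfl⟩
  have hinv : ∀ w : Equiv.Perm V, IsScal F w → IsScal F w⁻¹ := by
    rintro w ⟨a, ha⟩
    by_cases ha0 : a = 0
    · refine ⟨0, fun v => ?_⟩
      have hz : ∀ x : V, x = 0 := by
        intro x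
        have h1 := ha (w⁻¹ x)
        rwa [apply_inv_self, ha0, zero_smul] at h1
      rw [hz (w⁻¹ v), hz v, smul_zero]
    · refine ⟨a⁻¹, fun v => ?_⟩
      apply w.injective
      rw [apply_inv_self, ha, smul_inv_smul₀ ha0]
  let N : Subgroup Γ :=
    { carrier := {w | IsScal F (w : Equiv.Perm V)}
      mul_mem' := fun {a b} ha hb => isScal_mul ha hb
      one_mem' := hone
      inv_mem' := fun {a} ha => hinv _ ha }
  have hN : N.Normal := by
    constructor
    intro n hn g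
    obtain ⟨θ, hθ⟩ := hsemi g g.2
    exact isScal_conj hθ hn
  have hsol : Group.IsSolvable (Γ ⧸ N) := by
    refine Group.isSolvable_of_surjective
      (f := (QuotientGroup.mk' N).comp (Subgroup.inclusion hHΓ)) ?_
    intro x
    obtain ⟨⟨w, x0, hx0, hw⟩, rfl⟩ := QuotientGroup.mk_surjective x
    refine ⟨⟨x0, hx0⟩, ?_⟩
    change ((Subgroup.inclusion hHΓ ⟨x0, hx0⟩ : Γ) : Γ ⧸ N) = _
    rw [QuotientGroup.eq]
    obtain ⟨s, hs, hw⟩ := hw
    obtain ⟨θ, hθ⟩ := hH x0 hx0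
    refine ⟨θ.symm s, fun v => ?_⟩
    change x0⁻¹ (w v) = _
    apply x0.injective
    rw [apply_inv_self, hθ.smul, RingEquiv.apply_symm_apply, hw]
  have hΓ : Group.IsSolvable Γ := by
    have h1 : Group.IsSolvable N :=
      Group.isSolvable_of_comm fun a b =>
        Subtype.ext (Subtype.ext (commute_of_isScal (F := F) a.2 b.2).eq)
    exact Group.isSolvable_of_ker_le_range N.subtype (QuotientGroup.mk' N) (by
      rw [QuotientGroup.ker_mk', Subgroup.range_subtype])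
  exact isSolvable_of_le (fun w hw => hK w hw) hΓ

theorem apair_scl (hc : Semi σ c) (hd : Semi τ d) (hE : ∀ g ∈ E, Semi (1 : F ≃+* F) g)
    (hcc : Scl F c' c) (hdd : Scl F d' d) (h : APair E c' d') : APair E c d := by
  obtain ⟨g, hg, h⟩ := h
  refine ⟨g, hg, fun hs => h (solvable_of_scl (F := F) (H := Subgroup.closure {c, g * d * g⁻¹})
    ?_ ?_ hs)⟩
  · intro x hx
    have h1 : Subgroup.closure ({c, g * d * g⁻¹} : Set (Equiv.Perm V)) ≤ Sem F V := by
      rw [Subgroup.closure_le]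
      rintro y hy
      rcases hy with rfl | hy
      · exact ⟨σ, hc⟩
      · rw [Set.mem_singleton_iff] at hy
        rw [hy]
        exact ⟨_, ((hE g hg).mul hd).mul (hE g hg).inv⟩
    exact h1 hx
  · intro w hw
    induction hw using Subgroup.closure_induction with
    | mem x hx =>
      rcases hx with rfl | hx
      · exact ⟨c, Subgroup.subset_closure (by simp), hcc⟩
      · rw [Set.mem_singleton_iff] at hx
        refine ⟨g * d * g⁻¹, Subgroup.subset_closure (by simp), ?_⟩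
        rw [hx]
        exact Scl.mul ((hE g hg).mul hd) (Scl.mul (hE g hg) (Scl.refl _) hdd) (Scl.refl _)
    | one => exact ⟨1, one_mem _, Scl.refl _⟩
    | mul a b _ _ ha hb =>
      obtain ⟨x, hx, hax⟩ := ha
      obtain ⟨y, hy, hby⟩ := hb
      have h1 : Subgroup.closure ({c, g * d * g⁻¹} : Set (Equiv.Perm V)) ≤ Sem F V := by
        rw [Subgroup.closure_le]
        rintro y hy
        rcases hy with rfl | hy
        · exact ⟨σ, hc⟩
        · rw [Set.mem_singleton_iff] at hy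
          rw [hy]
          exact ⟨_, ((hE g hg).mul hd).mul (hE g hg).inv⟩
      obtain ⟨θ, hθ⟩ := h1 hx
      exact ⟨x * y, mul_mem hx hy, Scl.mul hθ hax hby⟩
    | inv a _ ha =>
      obtain ⟨x, hx, hax⟩ := ha
      have h1 : Subgroup.closure ({c, g * d * g⁻¹} : Set (Equiv.Perm V)) ≤ Sem F V := by
        rw [Subgroup.closure_le]
        rintro y hy
        rcases hy with rfl | hy
        · exact ⟨σ, hc⟩
        · rw [Set.mem_singleton_iff] at hy
          rw [hy]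
          exact ⟨_, ((hE g hg).mul hd).mul (hE g hg).inv⟩
      obtain ⟨θ, hθ⟩ := h1 hx
      exact ⟨x⁻¹, inv_mem hx, scl_inv hθ hax⟩

theorem bps_scl (hc : Semi σ c) (hd : Semi τ d) (hE : ∀ g ∈ E, Semi (1 : F ≃+* F) g)
    (hcc : Scl F c' c) (hdd : Scl F d' d) (h : BPs F p E c' d') : BPs F p E c d := by
  obtain ⟨g, hg, h⟩ := h
  refine ⟨g, hg, fun k hk => h k ?_⟩
  have h1 : Scl F (g * d' * g⁻¹) (g * d * g⁻¹) :=
    Scl.mul ((hE g hg).mul hd) (Scl.mul (hE g hg) (Scl.refl _) hdd) (Scl.refl _)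
  have h2 : Semi (τ : F ≃+* F) (g * d * g⁻¹) := by
    have := ((hE g hg).mul hd).mul (hE g hg).inv
    simpa using this
  exact (((Scl.mul hc hcc h1).pow (hc.mul h2) _).isScal_iff).2 hk

theorem SPs.of_scl (hc : Semi σ c) (hd : Semi τ d) (hE : ∀ g ∈ E, Semi (1 : F ≃+* F) g)
    (hcc : Scl F c' c) (hdd : Scl F d' d) (h : SPs F p E c' d') : SPs F p E c d :=
  ⟨apair_scl hc hd hE hcc hdd h.1, bps_scl hc hd hE hcc hdd h.2⟩

end scl

section res

variable {F : Type*} [Field F] {V : Type*} [AddCommGroup V] [Module F V]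
variable {K : Type*} [Field K] {S : Type*} [AddCommGroup S] [Module K S]
variable {p : ℕ} {E : Subgroup (Equiv.Perm V)} {c d : Equiv.Perm V} {ι : S → V}
  {E0 : Subgroup (Equiv.Perm S)} {c0 d0 : Equiv.Perm S}

omit [AddCommGroup V] [AddCommGroup S] in
theorem apair_of_res (hι : Function.Injective ι) (hc : Res ι c c0) (hd : Res ι d d0)
    (hE : ∀ g0 ∈ E0, ∃ g ∈ E, Res ι g g0) (h : APair E0 c0 d0) : APair E c d := by
  let M : Subgroup (Equiv.Perm V) :=
    { carrier := {w | ∃ w0, Res ι w w0}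
      mul_mem' := by
        rintro a b ⟨a0, ha⟩ ⟨b0, hb⟩
        exact ⟨a0 * b0, ha.mul hb⟩
      one_mem' := ⟨1, Res.one⟩
      inv_mem' := by
        rintro a ⟨a0, ha⟩
        exact ⟨a0⁻¹, ha.inv⟩ }
  have huni : ∀ {w : Equiv.Perm V} {a b : Equiv.Perm S}, Res ι w a → Res ι w b → a = b := by
    intro w a b ha hb
    ext v
    apply hι
    rw [← ha, ← hb]
  let φ : M →* Equiv.Perm S :=
    { toFun := fun w => Classical.choose w.2
      map_one' := huni (Classical.choose_spec (1 : M).2) Res.one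
      map_mul' := fun a b => huni (Classical.choose_spec (a * b).2)
        ((Classical.choose_spec a.2).mul (Classical.choose_spec b.2)) }
  have hφ : ∀ {w : Equiv.Perm V} {w0 : Equiv.Perm S} (hw : Res ι w w0),
      φ ⟨w, w0, hw⟩ = w0 := fun {w w0} hw =>
    huni (Classical.choose_spec (⟨w0, hw⟩ : ∃ w0, Res ι w w0)) hw
  refine APair.of_section (M := M) (c := ⟨c, c0, hc⟩) (d := ⟨d, d0, hd⟩) φ ?_ (T := E0) ?_
  · intro g0 hg0
    obtain ⟨g, hg, hgg⟩ := hE g0 hg0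
    exact ⟨⟨g, g0, hgg⟩, hg, hφ hgg⟩
  · rw [hφ hc, hφ hd]
    exact h

theorem bps_of_res (hc : Res ι c c0) (hd : Res ι d d0)
    (hE : ∀ g0 ∈ E0, ∃ g ∈ E, Res ι g g0)
    (hsc : ∀ (w : Equiv.Perm V) (w0 : Equiv.Perm S), Res ι w w0 → IsScal F w → IsScal K w0)
    (h : BPs K p E0 c0 d0) : BPs F p E c d := by
  obtain ⟨g0, hg0, h⟩ := h
  obtain ⟨g, hg, hgg⟩ := hE g0 hg0
  exact ⟨g, hg, fun k hk => h k (hsc _ _ ((hc.mul ((hgg.mul hd).mul hgg.inv)).pow _) hk)⟩

/-- **Restriction.** -/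
theorem SPs.of_res (hι : Function.Injective ι) (hc : Res ι c c0) (hd : Res ι d d0)
    (hE : ∀ g0 ∈ E0, ∃ g ∈ E, Res ι g g0)
    (hsc : ∀ (w : Equiv.Perm V) (w0 : Equiv.Perm S), Res ι w w0 → IsScal F w → IsScal K w0)
    (h : SPs K p E0 c0 d0) : SPs F p E c d :=
  ⟨apair_of_res hι hc hd hE h.1, bps_of_res hc hd hE hsc h.2⟩

end res

section trans

variable {F : Type*} [Field F] {V : Type*} [AddCommGroup V] [Module F V] [Finite V]
  {T : Type*} [Group T] [Finite T] {X : Type*} [Group X]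

/-- The permutations of `V` which induce automorphisms of `T`. -/
def Gam (π : X →* T) (ρ : X →* Equiv.Perm V) : Subgroup (Equiv.Perm V) where
  carrier := {w | ∃ β : MulAut T, Ind π ρ w β}
  mul_mem' := by
    rintro a b ⟨β, h⟩ ⟨β', h'⟩
    exact ⟨β * β', h.mul h'⟩
  one_mem' := ⟨1, Ind.one π ρ⟩
  inv_mem' := by
    rintro a ⟨β, h⟩
    exact ⟨β⁻¹, h.inv⟩

variable {π : X →* T} {ρ : X →* Equiv.Perm V}

/-- The induced automorphism. -/
noncomputable def Phi (hπ : Function.Surjective π) (hρ : Function.Injective ρ) :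
    Gam π ρ →* MulAut T where
  toFun w := Classical.choose w.2
  map_one' := Ind.unique hπ hρ (Classical.choose_spec (1 : Gam π ρ).2) (Ind.one π ρ)
  map_mul' a b := Ind.unique hπ hρ (Classical.choose_spec (a * b).2)
    ((Classical.choose_spec a.2).mul (Classical.choose_spec b.2))

omit [AddCommGroup V] in
theorem Phi_spec (hπ : Function.Surjective π) (hρ : Function.Injective ρ) (w : Gam π ρ) :
    Ind π ρ (w : Equiv.Perm V) (Phi hπ hρ w) := Classical.choose_spec w.2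

omit [AddCommGroup V] in
theorem Phi_eq (hπ : Function.Surjective π) (hρ : Function.Injective ρ) {w : Equiv.Perm V}
    {β : MulAut T} (h : Ind π ρ w β) : Phi hπ hρ ⟨w, β, h⟩ = β :=
  Ind.unique hπ hρ (Phi_spec hπ hρ ⟨w, β, h⟩) h

omit [AddCommGroup V] in
/-- Part (a), from automorphisms to maps. -/
theorem apair_of_aut (hπ : Function.Surjective π) (hρ : Function.Injective ρ) {y z : Equiv.Perm V}
    {c d : MulAut T} (hy : Ind π ρ y c) (hz : Ind π ρ z d) (h : APair (Inn T) c d) :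
    APair ρ.range y z := by
  refine APair.of_section (M := Gam π ρ) (c := ⟨y, c, hy⟩) (d := ⟨z, d, hz⟩) (Phi hπ hρ)
    (T := Inn T) ?_ (by rw [Phi_eq hπ hρ hy, Phi_eq hπ hρ hz]; exact h)
  rintro _ ⟨t, rfl⟩
  obtain ⟨s, rfl⟩ := hπ t
  refine ⟨(⟨ρ s, _, Ind.conj π ρ s⟩ : Gam π ρ), ?_, Phi_eq hπ hρ (Ind.conj π ρ s)⟩
  exact ⟨s, rfl⟩

/-- Part (a), from maps to automorphisms. -/
theorem aut_of_apair (hπ : Function.Surjective π) (hρ : Function.Injective ρ)
    {W : Subgroup (Equiv.Perm V)} (hρW : ρ.range ≤ W)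
    (huniq : ∀ y ∈ W, Ind π ρ y 1 → IsScal F y) {y z : Equiv.Perm V}
    {c d : MulAut T} (hyW : y ∈ W) (hzW : z ∈ W) (hy : Ind π ρ y c) (hz : Ind π ρ z d)
    (h : APair ρ.range y z) : APair (Inn T) c d := by
  obtain ⟨_, ⟨s, rfl⟩, h⟩ := h
  refine ⟨MulAut.conj (π s), ⟨π s, rfl⟩, fun hs => h ?_⟩
  have e1 : (ρ s)⁻¹ = ρ s⁻¹ := (map_inv ρ s).symm
  have e2 : (MulAut.conj (π s))⁻¹ = MulAut.conj (π s⁻¹) := by rw [map_inv π, map_inv]
  have hz' : Ind π ρ (ρ s * z * (ρ s)⁻¹) (MulAut.conj (π s) * d * (MulAut.conj (π s))⁻¹) := by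
    rw [e1, e2]
    exact ((Ind.conj π ρ s).mul hz).mul (Ind.conj π ρ s⁻¹)
  set H := Subgroup.closure ({y, ρ s * z * (ρ s)⁻¹} : Set (Equiv.Perm V)) with hH
  have hHG : H ≤ Gam π ρ := by
    rw [hH, Subgroup.closure_le]
    rintro w hw
    rcases hw with rfl | hw
    · exact ⟨_, hy⟩
    · rw [Set.mem_singleton_iff] at hw
      rw [hw]
      exact ⟨_, hz'⟩
  have hHW : H ≤ W := by
    rw [hH, Subgroup.closure_le]
    rintro w hw
    rcases hw with rfl | hw
    · exact hyW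
    · rw [Set.mem_singleton_iff] at hw
      rw [hw]
      exact mul_mem (mul_mem (hρW ⟨s, rfl⟩) hzW) (inv_mem (hρW ⟨s, rfl⟩))
  let ψ : H →* MulAut T := (Phi hπ hρ).comp (Subgroup.inclusion hHG)
  have hψ : ψ.range ≤
      Subgroup.closure ({c, MulAut.conj (π s) * d * (MulAut.conj (π s))⁻¹} : Set (MulAut T)) := by
    rintro _ ⟨w, rfl⟩
    have key : ∀ w ∈ H, ∀ β : MulAut T, Ind π ρ w β → β ∈
        Subgroup.closure ({c, MulAut.conj (π s) * d * (MulAut.conj (π s))⁻¹} :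
          Set (MulAut T)) := by
      intro w hw
      induction hw using Subgroup.closure_induction with
      | mem x hx =>
        intro β hβ
        rcases hx with rfl | hx
        · rw [Ind.unique hπ hρ hβ hy]
          exact Subgroup.subset_closure (by simp)
        · rw [Set.mem_singleton_iff] at hx
          subst hx
          rw [Ind.unique hπ hρ hβ hz']
          exact Subgroup.subset_closure (by simp)
      | one =>
        intro β hβ
        rw [Ind.unique hπ hρ hβ (Ind.one π ρ)]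
        exact one_mem _
      | mul a b ha' hb' ha hb =>
        intro β hβ
        obtain ⟨β1, h1⟩ := hHG ha'
        obtain ⟨β2, h2⟩ := hHG hb'
        rw [Ind.unique hπ hρ hβ (h1.mul h2)]
        exact mul_mem (ha _ h1) (hb _ h2)
      | inv a ha' ha =>
        intro β hβ
        obtain ⟨β1, h1⟩ := hHG ha'
        rw [Ind.unique hπ hρ hβ h1.inv]
        exact inv_mem (ha _ h1)
    exact key w w.2 _ (Phi_spec hπ hρ (Subgroup.inclusion hHG w))
  have hr : Group.IsSolvable ψ.range := isSolvable_of_le hψ hs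
  refine solvable_of_scal_ker (F := F) ψ.rangeRestrict ?_ hr
  intro w hw
  have h1 : ψ w = 1 := by
    have := congrArg Subtype.val hw
    exact this
  refine huniq _ (hHW w.2) ?_
  have h2 := Phi_spec hπ hρ (Subgroup.inclusion hHG w)
  have h3 : Phi hπ hρ (Subgroup.inclusion hHG w) = 1 := h1
  rw [h3] at h2
  exact h2

/-- **From pairs of semilinear maps to the strong row.** -/
theorem srow_of_core [Nontrivial V] {p : ℕ} (hp : p.Prime) (hπ : Function.Surjective π)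
    (hρ : Function.Injective ρ) (hρlin : ∀ s : X, Semi (1 : F ≃+* F) (ρ s))
    {W : Subgroup (Equiv.Perm V)} (hρW : ρ.range ≤ W)
    (hind : ∀ c : MulAut T, orderOf c = p → ∃ y ∈ W, Ind π ρ y c)
    (huniq : ∀ y ∈ W, Ind π ρ y 1 → IsScal F y)
    (hcore : ∀ y ∈ W, ∀ z ∈ W, IsScal F (y ^ p) → ¬ IsScal F y → IsScal F (z ^ p) →
      ¬ IsScal F z → SPs F p ρ.range y z) : SRow p T := by
  have helt : ∀ c : MulAut T, orderOf c = p → ∀ y ∈ W, Ind π ρ y c →
      IsScal F (y ^ p) ∧ ¬ IsScal F y := by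
    intro c hc y hy hyc
    constructor
    · have h1 := hyc.pow p
      have h2 : c ^ p = 1 := by rw [← hc, pow_orderOf_eq_one]
      rw [h2] at h1
      exact huniq _ (pow_mem hy p) h1
    · intro hs
      obtain ⟨a, rfl⟩ := exists_scal hs
      have h1 : c = 1 := Ind.unique hπ hρ hyc (ind_scal hρlin a)
      rw [h1, orderOf_one] at hc
      exact hp.one_lt.ne hc
  intro c d hc hd
  obtain ⟨y, hy, hyc⟩ := hind c hc
  obtain ⟨z, hz, hzd⟩ := hind d hd
  obtain ⟨hyp, hyn⟩ := helt c hc y hy hyc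
  obtain ⟨hzp, hzn⟩ := helt d hd z hz hzd
  obtain ⟨h1, _, ⟨s, rfl⟩, h2⟩ := hcore y hy z hz hyp hyn hzp hzn
  refine SPair.mk' hp (aut_of_apair hπ hρ hρW huniq hy hz hyc hzd h1)
    ⟨MulAut.conj (π s), ⟨π s, rfl⟩, fun k hk => h2 k ?_⟩
  have e1 : (ρ s)⁻¹ = ρ s⁻¹ := (map_inv ρ s).symm
  have e2 : (MulAut.conj (π s))⁻¹ = MulAut.conj (π s⁻¹) := by rw [map_inv π, map_inv]
  have hz' : Ind π ρ (ρ s * z * (ρ s)⁻¹) (MulAut.conj (π s) * d * (MulAut.conj (π s))⁻¹) := by
    rw [e1, e2]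
    exact ((Ind.conj π ρ s).mul hzd).mul (Ind.conj π ρ s⁻¹)
  refine huniq _ (pow_mem (mul_mem hy (mul_mem (mul_mem (hρW ⟨s, rfl⟩) hz)
    (inv_mem (hρW ⟨s, rfl⟩)))) _) ?_
  have h3 := (hyc.mul hz').pow (p ^ k)
  rwa [hk] at h3

/-- **From the strong row to pairs of semilinear maps.** -/
theorem core_of_srow [Nontrivial V] {p : ℕ} (hp : p.Prime) (hπ : Function.Surjective π)
    (hρ : Function.Injective ρ) (hρlin : ∀ s : X, Semi (1 : F ≃+* F) (ρ s))
    {W : Subgroup (Equiv.Perm V)}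
    (hind : ∀ y ∈ W, ∃ c : MulAut T, Ind π ρ y c)
    (huniq : ∀ y ∈ W, Ind π ρ y 1 → IsScal F y) (hrow : SRow p T) {y z : Equiv.Perm V}
    (hy : y ∈ W) (hz : z ∈ W) (hyp : IsScal F (y ^ p)) (hyn : ¬ IsScal F y)
    (hzp : IsScal F (z ^ p)) (hzn : ¬ IsScal F z) : SPs F p ρ.range y z := by
  have hpf : Fact p.Prime := ⟨hp⟩
  have hord : ∀ {y : Equiv.Perm V} {c : MulAut T}, y ∈ W → Ind π ρ y c → IsScal F (y ^ p) →
      ¬ IsScal F y → orderOf c = p := by
    intro y c hyW hyc hyp hyn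
    refine orderOf_eq_prime ?_ ?_
    · obtain ⟨a, ha⟩ := exists_scal hyp
      have h1 := hyc.pow p
      rw [ha] at h1
      exact Ind.unique hπ hρ h1 (ind_scal hρlin a)
    · rintro rfl
      exact hyn (huniq y hyW hyc)
  obtain ⟨c, hyc⟩ := hind y hy
  obtain ⟨d, hzd⟩ := hind z hz
  have h := hrow c d (hord hy hyc hyp hyn) (hord hz hzd hzp hzn)
  refine ⟨apair_of_aut hπ hρ hyc hzd h.1, ?_⟩
  obtain ⟨_, ⟨t, rfl⟩, h2⟩ := ((spair_iff hp).1 h).2
  obtain ⟨s, rfl⟩ := hπ t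
  refine ⟨ρ s, ⟨s, rfl⟩, fun k hk => h2 k ?_⟩
  have e1 : (ρ s)⁻¹ = ρ s⁻¹ := (map_inv ρ s).symm
  have e2 : (MulAut.conj (π s))⁻¹ = MulAut.conj (π s⁻¹) := by rw [map_inv π, map_inv]
  have hz' : Ind π ρ (ρ s * z * (ρ s)⁻¹) (MulAut.conj (π s) * d * (MulAut.conj (π s))⁻¹) := by
    rw [e1, e2]
    exact ((Ind.conj π ρ s).mul hzd).mul (Ind.conj π ρ s⁻¹)
  obtain ⟨a, ha⟩ := exists_scal hk
  have h3 := (hyc.mul hz').pow (p ^ k)
  rw [ha] at h3
  exact Ind.unique hπ hρ h3 (ind_scal hρlin a)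

end trans

end Cfsg.Agent.H43.SP
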